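import Mathlib.RingTheory.Polynomial.Cyclotomic.Roots
import Mathlib.LinearAlgebra.Matrix.Charpoly.Coeff
import Mathlib.LinearAlgebra.Matrix.ToLinearEquiv
import Mathlib.LinearAlgebra.FreeModule.Finite.CardQuotient
import Mathlib.Analysis.Matrix.PosDef
import Mathlib.Analysis.MeanInequalities
import Mathlib.Algebra.Order.Star.Real

/-!
An automorphism of a lattice of finite order whose characteristic polynomial is a cyclotomic
polynomial: Krylov matrices, their determinants, and the quotient by `q - M`.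
-/

set_option autoImplicit false

open scoped Matrix
open Polynomial

namespace Cfsg.Agent.Chevalley.Singer

variable {l : ℕ}

/-- The matrix with columns `M ^ j *ᵥ a`. -/
def krylov (M : Matrix (Fin l) (Fin l) ℤ) (a : Fin l → ℤ) : Matrix (Fin l) (Fin l) ℤ :=
  Matrix.of fun i j => (M ^ (j : ℕ) *ᵥ a) i

theorem vecMul_pow {R : Type*} [CommRing R] {M : Matrix (Fin l) (Fin l) R} {v : Fin l → R} {c : R}
    (h : v ᵥ* M = c • v) (k : ℕ) : v ᵥ* M ^ k = c ^ k • v := by
  induction k with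
  | zero => simp
  | succ k ih =>
    rw [pow_succ, ← Matrix.vecMul_vecMul, ih, Matrix.smul_vecMul, h, smul_smul, pow_succ]

theorem vecMul_aeval {R : Type*} [CommRing R] {M : Matrix (Fin l) (Fin l) R} {v : Fin l → R} {c : R}
    (h : v ᵥ* M = c • v) (p : R[X]) : v ᵥ* aeval M p = p.eval c • v := by
  induction p using Polynomial.induction_on' with
  | add p₁ p₂ h1 h2 => rw [map_add, Matrix.vecMul_add, h1, h2, eval_add, add_smul]
  | monomial n a =>
    rw [aeval_monomial, eval_monomial, Algebra.algebraMap_eq_smul_one, Matrix.smul_mul,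
      Matrix.one_mul, Matrix.vecMul_smul, vecMul_pow h, smul_smul]

/-- Reduction of a polynomial in an integer matrix. -/
theorem map_aeval {R : Type*} [CommRing R] (M : Matrix (Fin l) (Fin l) ℤ) (p : ℤ[X]) :
    (aeval M p).map (Int.cast : ℤ → R) = aeval (M.map (Int.cast : ℤ → R)) (p.map (Int.castRingHom R)) := by
  induction p using Polynomial.induction_on' with
  | add p₁ p₂ h1 h2 =>
    rw [map_add, Matrix.map_add _ Int.cast_add, h1, h2, Polynomial.map_add, map_add]
  | monomial n a =>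
    rw [aeval_monomial, map_monomial, aeval_monomial, Algebra.algebraMap_eq_smul_one,
      Algebra.algebraMap_eq_smul_one, Matrix.smul_mul, Matrix.one_mul, Matrix.smul_mul,
      Matrix.one_mul]
    have hp : (M ^ n).map (Int.cast : ℤ → R) = M.map (Int.cast : ℤ → R) ^ n :=
      map_pow (Int.castRingHom R).mapMatrix M n
    rw [← hp]
    ext i j
    simp [-zsmul_eq_mul]

/-- The characteristic polynomial is cyclotomic as soon as a primitive residue is an eigenvalue. -/
theorem charpoly_eq {M : Matrix (Fin l) (Fin l) ℤ} {m r q d : ℕ} [Fact r.Prime]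
    (hm : M ^ m = 1) (hrm : ¬ r ∣ m) (hd : orderOf (q : ZMod r) = d) (hl : d.totient = l)
    {v : Fin l → ZMod r} (hv0 : v ≠ 0) (hv : v ᵥ* M.map Int.cast = (q : ZMod r) • v) :
    M.charpoly = cyclotomic d ℤ := by
  have hm0 : 0 < m := Nat.pos_of_ne_zero fun h => hrm (h ▸ dvd_zero r)
  have hdm : d ∣ m := by
    rw [← hd]
    refine orderOf_dvd_of_pow_eq_one ?_
    have h := vecMul_pow hv m
    rw [show M.map (Int.cast : ℤ → ZMod r) ^ m = 1 by
      have h2 := (map_pow (Int.castRingHom (ZMod r)).mapMatrix M m).symm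
      rw [hm, map_one] at h2
      exact h2, Matrix.vecMul_one] at h
    obtain ⟨i, hi⟩ := Function.ne_iff.1 hv0
    have h3 := congrFun h i
    rw [Pi.smul_apply, smul_eq_mul] at h3
    exact mul_eq_right₀ hi |>.1 h3.symm
  have hd0 : 0 < d := Nat.pos_of_dvd_of_pos hdm hm0
  obtain ⟨g, hg⟩ : ∃ g, g = ∏ e ∈ m.divisors.erase d, cyclotomic e ℤ := ⟨_, rfl⟩
  have hprod : cyclotomic d ℤ * g = X ^ m - 1 := by
    rw [hg, Finset.mul_prod_erase m.divisors (fun e => cyclotomic e ℤ)
      (Nat.mem_divisors.2 ⟨hdm, hm0.ne'⟩)]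
    exact prod_cyclotomic_eq_X_pow_sub_one hm0 ℤ
  have hsing : (aeval M (cyclotomic d ℤ)).det = 0 := by
    by_contra hne
    have h1 : aeval M (cyclotomic d ℤ) * aeval M g = 0 := by
      rw [← map_mul, hprod, map_sub, map_pow, aeval_X, map_one, hm, sub_self]
    have h2 := congrArg ((aeval M (cyclotomic d ℤ)).adjugate * ·) h1
    simp only [← mul_assoc, Matrix.adjugate_mul, Matrix.smul_mul, Matrix.one_mul, mul_zero] at h2
    have hg0 : aeval M g = 0 := by
      rcases smul_eq_zero.1 h2 with h | h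
      exacts [absurd h hne, h]
    have h3 := vecMul_aeval hv (g.map (Int.castRingHom (ZMod r)))
    rw [← map_aeval, hg0, Matrix.map_zero _ Int.cast_zero, Matrix.vecMul_zero, eq_comm,
      smul_eq_zero] at h3
    rcases h3 with h3 | h3
    swap
    · exact hv0 h3
    rw [hg, Polynomial.map_prod, eval_prod, Finset.prod_eq_zero_iff] at h3
    obtain ⟨e, he, he0⟩ := h3
    rw [Finset.mem_erase, Nat.mem_divisors] at he
    rw [map_cyclotomic] at he0
    have : NeZero (e : ZMod r) := ⟨fun h0 => hrm (((ZMod.natCast_eq_zero_iff _ _).1 h0).trans he.2.1)⟩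
    exact he.1 (((isRoot_cyclotomic_iff.1 he0).eq_orderOf).trans hd)
  obtain ⟨MQ, hMQ⟩ : ∃ MQ, MQ = M.map (Int.cast : ℤ → ℚ) := ⟨_, rfl⟩
  have hdvd : cyclotomic d ℚ ∣ MQ.charpoly := by
    rcases (cyclotomic.irreducible_rat hd0).isCoprime_or_dvd MQ.charpoly with h | h
    swap
    · exact h
    obtain ⟨a, b, hab⟩ := h
    have h1 := congrArg (aeval MQ) hab
    rw [map_add, map_mul, map_mul, Matrix.aeval_self_charpoly, mul_zero, add_zero, map_one] at h1
    have h2 := congrArg Matrix.det h1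
    have h3 : (aeval MQ (cyclotomic d ℚ)).det = 0 := by
      rw [hMQ, ← map_cyclotomic d (Int.castRingHom ℚ), ← map_aeval]
      have h4 := congrArg (Int.castRingHom ℚ) hsing
      rw [RingHom.map_det, map_zero] at h4
      exact h4
    rw [Matrix.det_mul, h3, mul_zero, Matrix.det_one] at h2
    exact absurd h2 zero_ne_one
  have heq : cyclotomic d ℚ = MQ.charpoly :=
    (eq_of_monic_of_dvd_of_natDegree_le (cyclotomic.monic d ℚ) (MQ.charpoly_monic) hdvd
      (by rw [Matrix.charpoly_natDegree_eq_dim, natDegree_cyclotomic, hl, Fintype.card_fin])).symm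
  apply Polynomial.map_injective (Int.castRingHom ℚ) Int.cast_injective
  rw [map_cyclotomic, heq, hMQ, ← Matrix.charpoly_map]
  rfl

variable {M : Matrix (Fin l) (Fin l) ℤ} {d : ℕ}

theorem krylov_mulVec (a u : Fin l → ℤ) :
    krylov M a *ᵥ u = ∑ j, u j • (M ^ (j : ℕ) *ᵥ a) := by
  funext i
  simp [krylov, Matrix.mulVec, dotProduct, mul_comm, Finset.sum_apply]

theorem det_krylov_ne (hd : 0 < d) (hcp : M.charpoly = cyclotomic d ℤ) {a : Fin l → ℤ} (ha : a ≠ 0) :
    (krylov M a).det ≠ 0 := by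
  intro h0
  obtain ⟨u, hu, hKu⟩ := Matrix.exists_mulVec_eq_zero_iff.2 h0
  obtain ⟨p, hp⟩ : ∃ p : ℤ[X], p = ∑ j : Fin l, monomial (j : ℕ) (u j) := ⟨_, rfl⟩
  have hcoef : ∀ j : Fin l, p.coeff j = u j := fun j => by
    rw [hp, finsetSum_coeff, Finset.sum_eq_single j]
    · simp
    · intro i _ hi; rw [coeff_monomial, if_neg fun e => hi (Fin.ext e)]
    · simp
  have hdeg : p.natDegree < l := by
    have hl : 0 < l := Nat.pos_of_ne_zero fun e => by subst e; exact ha (funext fun i => i.elim0)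
    rw [hp]
    refine lt_of_le_of_lt (natDegree_sum_le_of_forall_le (n := l - 1) Finset.univ _ fun j _ => ?_)
      (by omega)
    exact (natDegree_monomial_le _).trans (by omega)
  have hp0 : p ≠ 0 := fun e => hu (funext fun j => by rw [← hcoef j, e]; simp)
  have hpa : aeval M p *ᵥ a = 0 := by
    rw [hp, map_sum, Matrix.sum_mulVec, ← hKu, krylov_mulVec]
    refine Finset.sum_congr rfl fun j _ => ?_
    rw [aeval_monomial, Algebra.algebraMap_eq_smul_one, Matrix.smul_mul, Matrix.one_mul,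
      Matrix.smul_mulVec]
  have hCH : aeval M (cyclotomic d ℤ) = 0 := by rw [← hcp]; exact Matrix.aeval_self_charpoly M
  have hcop : IsCoprime (cyclotomic d ℚ) (p.map (Int.castRingHom ℚ)) := by
    refine ((cyclotomic.irreducible_rat hd).isCoprime_or_dvd _).resolve_right fun h => ?_
    have h1 := natDegree_le_of_dvd h (by
      rwa [Ne, Polynomial.map_eq_zero_iff Int.cast_injective])
    have h2 := (natDegree_map_le (f := Int.castRingHom ℚ) (p := p))
    have h3 : (cyclotomic d ℚ).natDegree = l := by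
      rw [← map_cyclotomic d (Int.castRingHom ℚ), natDegree_map_eq_of_injective Int.cast_injective,
        ← hcp, Matrix.charpoly_natDegree_eq_dim, Fintype.card_fin]
    omega
  obtain ⟨A, B, hAB⟩ := hcop
  obtain ⟨MQ, hMQ⟩ : ∃ MQ, MQ = M.map (Int.cast : ℤ → ℚ) := ⟨_, rfl⟩
  obtain ⟨aQ, haQ⟩ : ∃ aQ : Fin l → ℚ, aQ = fun i => (a i : ℚ) := ⟨_, rfl⟩
  have h1 := congrArg (fun x => aeval MQ x *ᵥ aQ) hAB
  have h2 : aeval MQ (cyclotomic d ℚ) = 0 := by
    rw [hMQ, ← map_cyclotomic d (Int.castRingHom ℚ), ← map_aeval, hCH,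
      Matrix.map_zero _ Int.cast_zero]
  have h3 : aeval MQ (p.map (Int.castRingHom ℚ)) *ᵥ aQ = 0 := by
    rw [hMQ, ← map_aeval, haQ]
    funext i
    have h4 := congrArg (fun z : ℤ => (z : ℚ)) (congrFun hpa i)
    simpa [Matrix.mulVec, dotProduct] using h4
  simp only [map_add, map_mul, map_one, h2, mul_zero, zero_add, ← Matrix.mulVec_mulVec, h3,
    Matrix.mulVec_zero, Matrix.one_mulVec] at h1
  exact ha (funext fun i => by
    have := congrFun h1.symm i
    simp only [haQ, Pi.zero_apply, Int.cast_eq_zero] at this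
    exact this)

/-- An additive map that turns `M` into multiplication by `q` and kills `a` is killed by the
determinant of the Krylov matrix. -/
theorem det_smul_eq_zero {A : Type*} [AddCommGroup A] (u : (Fin l → ℤ) →+ A) (q : ℤ)
    (hu : ∀ x, u (M *ᵥ x) = q • u x) {a : Fin l → ℤ} (ha : u a = 0) (x : Fin l → ℤ) :
    (krylov M a).det • u x = 0 := by
  have hpow : ∀ j : ℕ, u (M ^ j *ᵥ a) = 0 := by
    intro j
    induction j with
    | zero => simpa using ha
    | succ j ih => rw [pow_succ', ← Matrix.mulVec_mulVec, hu, ih, smul_zero]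
  have hK : ∀ y : Fin l → ℤ, u (krylov M a *ᵥ y) = 0 := fun y => by
    rw [krylov_mulVec, map_sum]
    exact Finset.sum_eq_zero fun j _ => by rw [map_zsmul, hpow, smul_zero]
  have h := hK ((krylov M a).adjugate *ᵥ x)
  rwa [Matrix.mulVec_mulVec, Matrix.mul_adjugate, Matrix.smul_mulVec, Matrix.one_mulVec,
    map_zsmul] at h

/-- The determinant of a Krylov matrix of an isometry is bounded by the length of the vector. -/
theorem det_krylov_sq_le {n : ℕ} (C : Matrix (Fin n) (Fin l) ℤ)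
    (hS : Mᵀ * (Cᵀ * C) * M = Cᵀ * C) (a : Fin l → ℤ) :
    (krylov M a).det ^ 2 * (Cᵀ * C).det ≤ (a ⬝ᵥ (Cᵀ * C) *ᵥ a) ^ l := by
  rcases Nat.eq_zero_or_pos l with rfl | hl
  · simp [Matrix.det_fin_zero]
  have hinv : ∀ j : ℕ, (M ^ j)ᵀ * (Cᵀ * C) * M ^ j = Cᵀ * C := by
    intro j
    induction j with
    | zero => simp
    | succ j ih =>
      rw [pow_succ, Matrix.transpose_mul,
        show Mᵀ * (M ^ j)ᵀ * (Cᵀ * C) * (M ^ j * M) = Mᵀ * ((M ^ j)ᵀ * (Cᵀ * C) * M ^ j) * M by
          simp only [mul_assoc], ih, hS]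
  obtain ⟨A, hA⟩ : ∃ A, A = C * krylov M a := ⟨_, rfl⟩
  have hdiag : ∀ j, (Aᵀ * A) j j = a ⬝ᵥ (Cᵀ * C) *ᵥ a := by
    intro j
    have e1 : (Aᵀ * A) j j = (M ^ (j : ℕ) *ᵥ a) ⬝ᵥ (Cᵀ * C) *ᵥ (M ^ (j : ℕ) *ᵥ a) := by
      rw [hA, Matrix.transpose_mul,
        show (krylov M a)ᵀ * Cᵀ * (C * krylov M a) = (krylov M a)ᵀ * ((Cᵀ * C) * krylov M a) by
          simp only [Matrix.mul_assoc], Matrix.mul_apply]
      refine Finset.sum_congr rfl fun i _ => ?_
      rfl
    rw [e1, Matrix.mulVec_mulVec, ← Matrix.vecMul_transpose, ← Matrix.dotProduct_mulVec,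
      Matrix.mulVec_mulVec, ← mul_assoc, hinv]
  have hdet : (Aᵀ * A).det = (krylov M a).det ^ 2 * (Cᵀ * C).det := by
    rw [hA, Matrix.transpose_mul,
      show (krylov M a)ᵀ * Cᵀ * (C * krylov M a) = (krylov M a)ᵀ * (Cᵀ * C) * krylov M a by
        simp only [Matrix.mul_assoc], Matrix.det_mul, Matrix.det_mul, Matrix.det_transpose]
    ring
  obtain ⟨AR, hAR⟩ : ∃ AR, AR = A.map (Int.cast : ℤ → ℝ) := ⟨_, rfl⟩
  have hG : (Aᵀ * A).map (Int.cast : ℤ → ℝ) = ARᴴ * AR := by
    have h1 : (Aᵀ * A).map (Int.castRingHom ℝ) =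
        Aᵀ.map (Int.castRingHom ℝ) * A.map (Int.castRingHom ℝ) := Matrix.map_mul
    rw [hAR, Matrix.conjTranspose_eq_transpose_of_trivial, ← Matrix.transpose_map]
    exact h1
  have hpsd : (ARᴴ * AR).PosSemidef := Matrix.posSemidef_conjTranspose_mul_self AR
  have h1 := Real.geom_mean_le_arith_mean Finset.univ (fun _ => (1 : ℝ))
    (hpsd.1.eigenvalues) (fun _ _ => zero_le_one) (by simp [hl]) fun i _ => hpsd.eigenvalues_nonneg i
  simp only [Real.rpow_one, one_mul, Finset.sum_const, Finset.card_univ, Fintype.card_fin,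
    nsmul_eq_mul, mul_one] at h1
  have htr : ∑ i, hpsd.1.eigenvalues i = (l : ℝ) * ((a ⬝ᵥ (Cᵀ * C) *ᵥ a : ℤ) : ℝ) := by
    have h2 := hpsd.1.trace_eq_sum_eigenvalues
    simp only [RCLike.ofReal_real_eq_id, id] at h2
    rw [← h2, Matrix.trace, ← hG]
    simp only [Matrix.diag_apply, Matrix.map_apply, hdiag, Finset.sum_const, Finset.card_univ,
      Fintype.card_fin, nsmul_eq_mul]
  rw [htr, mul_div_cancel_left₀ _ (Nat.cast_ne_zero.2 hl.ne')] at h1
  have hnn : (0 : ℝ) ≤ ∏ i, hpsd.1.eigenvalues i :=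
    Finset.prod_nonneg fun i _ => hpsd.eigenvalues_nonneg i
  have h3 := pow_le_pow_left₀ (Real.rpow_nonneg hnn _) h1 l
  rw [Real.rpow_inv_natCast_pow hnn hl.ne'] at h3
  have h4 := hpsd.1.det_eq_prod_eigenvalues
  simp only [RCLike.ofReal_real_eq_id, id] at h4
  rw [← h4, ← hG] at h3
  have h5 : ((Aᵀ * A).det : ℝ) = ((Aᵀ * A).map (Int.cast : ℤ → ℝ)).det :=
    RingHom.map_det (Int.castRingHom ℝ) (Aᵀ * A)
  rw [← h5, hdet] at h3
  exact_mod_cast h3

/-- The quotient of the lattice by `q - M`. -/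
def coker (M : Matrix (Fin l) (Fin l) ℤ) (q : ℤ) : Submodule ℤ (Fin l → ℤ) :=
  LinearMap.range (Matrix.toLin' (Matrix.scalar (Fin l) q - M))

theorem mk_mulVec (q : ℤ) (x : Fin l → ℤ) :
    Submodule.Quotient.mk (p := coker M q) (M *ᵥ x) = q • Submodule.Quotient.mk x := by
  rw [← Submodule.Quotient.mk_smul, eq_comm, Submodule.Quotient.eq]
  refine ⟨x, ?_⟩
  rw [Matrix.toLin'_apply, Matrix.sub_mulVec, Matrix.scalar_apply]
  congr 1
  funext i
  simp [Matrix.mulVec_diagonal]

theorem card_coker (hcp : M.charpoly = cyclotomic d ℤ) {q : ℤ}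
    (hq : (cyclotomic d ℤ).eval q ≠ 0) :
    Nat.card ((Fin l → ℤ) ⧸ coker M q) = ((cyclotomic d ℤ).eval q).natAbs := by
  have hdet : (Matrix.scalar (Fin l) q - M).det = (cyclotomic d ℤ).eval q := by
    rw [← hcp, Matrix.eval_charpoly]
  have hinj : Function.Injective (Matrix.toLin' (Matrix.scalar (Fin l) q - M)) := by
    rw [← LinearMap.ker_eq_bot]
    refine LinearMap.ker_eq_bot'.2 fun x hx => ?_
    by_contra hx0
    exact hq (hdet ▸ Matrix.exists_mulVec_eq_zero_iff.1 ⟨x, hx0, by rwa [Matrix.toLin'_apply] at hx⟩)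
  rw [← Submodule.natAbs_det_equiv (coker M q) (LinearEquiv.ofInjective _ hinj)]
  congr 1
  rw [← hdet, ← LinearMap.det_toLin']
  rfl

/-- The quotient is cyclic when the small primes divide the order at most once. -/
theorem coker_cyclic (hcp : M.charpoly = cyclotomic d ℤ) {q : ℤ}
    (hq : (cyclotomic d ℤ).eval q ≠ 0) (a : Fin l → ℤ)
    (hsmall : ∀ p : ℕ, p.Prime → (p : ℤ) ∣ (krylov M a).det →
      ¬ p ^ 2 ∣ ((cyclotomic d ℤ).eval q).natAbs) :
    IsCyclic (Multiplicative ((Fin l → ℤ) ⧸ coker M q)) := by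
  classical
  obtain ⟨N, hN⟩ : ∃ N, N = ((cyclotomic d ℤ).eval q).natAbs := ⟨_, rfl⟩
  have hN0 : 0 < N := by rw [hN]; exact Int.natAbs_pos.2 hq
  have hcard : Nat.card (Multiplicative ((Fin l → ℤ) ⧸ coker M q)) = N := by
    rw [hN, ← card_coker hcp hq]
    exact Nat.card_congr Multiplicative.toAdd
  have : Finite (Multiplicative ((Fin l → ℤ) ⧸ coker M q)) :=
    Nat.finite_of_card_ne_zero (by omega)
  obtain ⟨g, hg⟩ : ∃ g, g = Multiplicative.ofAdd (Submodule.Quotient.mk (p := coker M q) a) :=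
    ⟨_, rfl⟩
  -- the quotient by the cyclic subgroup is killed by the Krylov determinant
  have hkill : ∀ y, y ^ (krylov M a).det ∈ Subgroup.zpowers g := by
    intro y
    obtain ⟨x, hx⟩ := Submodule.Quotient.mk_surjective (coker M q) y.toAdd
    let H : AddSubgroup ((Fin l → ℤ) ⧸ coker M q) :=
      AddSubgroup.zmultiples (Submodule.Quotient.mk a)
    have h := det_smul_eq_zero (M := M) (A := ((Fin l → ℤ) ⧸ coker M q) ⧸ H)
      ((QuotientAddGroup.mk' H).comp (coker M q).mkQ.toAddMonoidHom) q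
      (fun z => by
        show QuotientAddGroup.mk' H (Submodule.Quotient.mk (M *ᵥ z)) = _
        rw [mk_mulVec, map_zsmul]; rfl)
      (a := a) (by
        show QuotientAddGroup.mk' H (Submodule.Quotient.mk a) = 0
        rw [QuotientAddGroup.mk'_apply, QuotientAddGroup.eq_zero_iff]
        exact AddSubgroup.mem_zmultiples _) x
    rw [← map_zsmul] at h
    have h2 : Submodule.Quotient.mk ((krylov M a).det • x) ∈ H := (QuotientAddGroup.eq_zero_iff _).1 h
    rw [Submodule.Quotient.mk_smul, hx, AddSubgroup.mem_zmultiples_iff] at h2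
    obtain ⟨k, hk⟩ := h2
    refine Subgroup.mem_zpowers_iff.2 ⟨k, ?_⟩
    rw [hg]
    exact (congrArg Multiplicative.ofAdd hk :)
  obtain ⟨i, hi⟩ : ∃ i, i = (Subgroup.zpowers g).index := ⟨_, rfl⟩
  have hmul : orderOf g * i = N := by rw [hi, ← hcard, ← Nat.card_zpowers, Subgroup.card_mul_index]
  have hi0 : i ≠ 0 := fun h => by rw [h, mul_zero] at hmul; omega
  have hprimes : ∀ p : ℕ, p.Prime → p ∣ i → (p : ℤ) ∣ (krylov M a).det := by
    intro p hp hpi
    have : Fact p.Prime := ⟨hp⟩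
    obtain ⟨y, hy⟩ := exists_prime_orderOf_dvd_card'
      (G := Multiplicative ((Fin l → ℤ) ⧸ coker M q) ⧸ Subgroup.zpowers g) p
      (by rwa [← Subgroup.index_eq_card, ← hi])
    obtain ⟨z, rfl⟩ := QuotientGroup.mk_surjective y
    rw [← hy]
    refine orderOf_dvd_iff_zpow_eq_one.2 ?_
    rw [← QuotientGroup.mk_zpow, QuotientGroup.eq_one_iff]
    exact hkill z
  have hcop : Nat.Coprime (orderOf g) i := by
    by_contra hne
    obtain ⟨p, hp, hpo, hpi⟩ := Nat.Prime.not_coprime_iff_dvd.1 hne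
    refine hsmall p hp (hprimes p hp hpi) ?_
    rw [← hN, ← hmul, pow_two]
    exact mul_dvd_mul hpo hpi
  have hsq : ∀ p : ℕ, p.Prime → p ∣ i → ¬ p ^ 2 ∣ i := fun p hp hpi h =>
    hsmall p hp (hprimes p hp hpi) (hN ▸ hmul ▸ h.trans (dvd_mul_left _ _))
  -- one generator for each prime of the index
  refine IsCyclic.iff_exponent_eq_card.2 ?_
  rw [hcard]
  refine Nat.dvd_antisymm (hcard ▸ Group.exponent_dvd_nat_card) ?_
  rw [← hmul]
  refine hcop.mul_dvd_of_dvd_of_dvd (Monoid.order_dvd_exponent g) ?_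
  rw [← Nat.prod_primeFactors_of_squarefree (Nat.squarefree_iff_prime_squarefree.2
    fun p hp h => hsq p hp ((dvd_mul_right p p).trans h) (by rwa [pow_two]))]
  refine Finset.prod_primes_dvd _ (fun p hp => (Nat.prime_of_mem_primeFactors hp).prime) fun p hp => ?_
  have : Fact p.Prime := ⟨Nat.prime_of_mem_primeFactors hp⟩
  obtain ⟨y, hy⟩ := exists_prime_orderOf_dvd_card' (G := Multiplicative ((Fin l → ℤ) ⧸ coker M q)) p
    (by rw [hcard, ← hmul]; exact dvd_mul_of_dvd_right (Nat.dvd_of_mem_primeFactors hp) _)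
  exact hy ▸ Monoid.order_dvd_exponent y

end Cfsg.Agent.Chevalley.Singer
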