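import Cfsg.Agent.Lib.Chevalley.WeylGroup
import Cfsg.Agent.Lib.Chevalley.TorusCard
import Mathlib.Data.ZMod.Basic

/-!
The action of words of fundamental reflections on weights, by integer matrices, and the triviality
of the stabiliser of a regular residue of order prime to the Weyl group.
-/

set_option autoImplicit false

open scoped Matrix

namespace Cfsg.Agent.Chevalley.Singer

open Cfsg.Lie Cfsg.Agent.Chevalley.Table Cfsg.Agent.Chevalley.Check Cfsg.Agent.Chevalley.Cert
  Cfsg.Agent.Chevalley.Group Cfsg.Agent.Chevalley.Borel Cfsg.Agent.Chevalley.Weyl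
  Cfsg.Agent.Chevalley.TorusCard Cfsg.Agent.Chevalley.WeylGroup Cfsg.Agent.Chevalley.WeylEnum

/-- The weight coordinates of a root. -/
def lam (D : ChevalleyDatum) (s : ℕ) : Fin D.rank → ℤ := fun i => D.cartan i s

/-- The coroots, as rows. -/
def corMat (D : ChevalleyDatum) : Matrix (Fin D.nroots) (Fin D.rank) ℤ :=
  Matrix.of fun r j => cor D r j

/-- The matrix of a fundamental reflection on weights. -/
def refMat (D : ChevalleyDatum) (i : ℕ) : Matrix (Fin D.rank) (Fin D.rank) ℤ :=
  1 - Matrix.vecMulVec (lam D (D.simple i)) (fun k : Fin D.rank => if (k : ℕ) = i then 1 else 0)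

/-- The matrix of a word. -/
def wMat (D : ChevalleyDatum) (L : List ℕ) : Matrix (Fin D.rank) (Fin D.rank) ℤ :=
  (L.map (refMat D)).prod

variable {D : ChevalleyDatum} {T : Tab}

theorem wMat_cons (i : ℕ) (L : List ℕ) : wMat D (i :: L) = refMat D i * wMat D L := rfl

theorem wMat_append (L L' : List ℕ) : wMat D (L ++ L') = wMat D L * wMat D L' := by simp [wMat]

theorem delta_dot {i : ℕ} (hi : i < D.rank) (x : Fin D.rank → ℤ) :
    (fun k : Fin D.rank => if (k : ℕ) = i then (1 : ℤ) else 0) ⬝ᵥ x = x ⟨i, hi⟩ := by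
  rw [dotProduct, Finset.sum_eq_single ⟨i, hi⟩]
  · simp
  · intro k _ hk; rw [if_neg fun e => hk (Fin.ext e), zero_mul]
  · simp

variable (hC : Certified D T)
include hC

theorem refMat_lam {i s : ℕ} (hi : i < D.rank) (hs : s < D.nroots) :
    refMat D i *ᵥ lam D s = lam D (D.reflectRoot i s) := by
  rw [refMat, Matrix.sub_mulVec, Matrix.one_mulVec, Matrix.vecMulVec_mulVec, delta_dot hi]
  funext j
  simp only [Pi.sub_apply, Pi.smul_apply, lam, MulOpposite.smul_eq_mul_unop, MulOpposite.unop_op,
    hC.cartan_reflect hi j.2 hs]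
  ring

theorem wMat_lam {L : List ℕ} (hL : ∀ i ∈ L, i < D.rank) {s : ℕ} (hs : s < D.nroots) :
    wMat D L *ᵥ lam D s = lam D (wL D L s) := by
  induction L with
  | nil => simp [wMat, wL]
  | cons i L ih =>
    have hL' : ∀ j ∈ L, j < D.rank := fun j hj => hL j (List.mem_cons_of_mem i hj)
    rw [wMat_cons, ← Matrix.mulVec_mulVec, ih hL',
      refMat_lam hC (hL i List.mem_cons_self) (wL_lt hC hL' hs)]
    rfl

theorem wMat_eq_of_eqv (hdet : (cartanMat D).det ≠ 0) {L L' : List ℕ}
    (hL : ∀ i ∈ L, i < D.rank) (hL' : ∀ i ∈ L', i < D.rank) (h : Eqv D L L') :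
    wMat D L = wMat D L' := by
  have h1 : wMat D L * (cartanMat D)ᵀ = wMat D L' * (cartanMat D)ᵀ := by
    ext a j
    show (wMat D L *ᵥ lam D (D.simple j)) a = (wMat D L' *ᵥ lam D (D.simple j)) a
    rw [wMat_lam hC hL (hC.simple_lt j.2), wMat_lam hC hL' (hC.simple_lt j.2),
      h _ (hC.simple_lt j.2)]
  have h2 := congrArg (· * ((cartanMat D)ᵀ).adjugate) h1
  simp only [mul_assoc, Matrix.mul_adjugate, Matrix.det_transpose, Matrix.mul_smul, mul_one] at h2
  exact smul_right_injective _ hdet h2

/-- The matrix of a word has order dividing the order of the Weyl group. -/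
theorem wMat_pow_card (hdet : (cartanMat D).det ≠ 0) {L : List ℕ} (hL : ∀ i ∈ L, i < D.rank) :
    wMat D L ^ Nat.card (WG hC) = 1 := by
  obtain ⟨m, hm⟩ : ∃ m, m = Nat.card (WG hC) := ⟨_, rfl⟩
  obtain ⟨L', rfl⟩ : ∃ L' : List (Fin D.rank), L'.map Fin.val = L :=
    ⟨L.pmap (fun a h => (⟨a, h⟩ : Fin D.rank)) hL, by simp [List.map_pmap]⟩
  have h1 : wordG hC (List.replicate m L').flatten = wordG hC [] := by
    have : ∀ k, wordG hC (List.replicate k L').flatten = wordG hC L' ^ k := by
      intro k
      induction k with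
      | zero => simp [wordG]
      | succ k ih =>
        rw [List.replicate_succ, List.flatten_cons, wordG, List.map_append, List.prod_append,
          ← wordG, ← wordG, ih, pow_succ']
    rw [this, hm, pow_card_eq_one']
    rfl
  have h2 := wMat_eq_of_eqv hC hdet (valid hC _) (valid hC []) ((wordG_eq_iff hC _ _).1 h1)
  rw [← hm]
  have h3 : ∀ k, wMat D ((List.replicate k L').flatten.map Fin.val) = wMat D (L'.map Fin.val) ^ k := by
    intro k
    induction k with
    | zero => simp [wMat]
    | succ k ih => rw [List.replicate_succ, List.flatten_cons, List.map_append, wMat_append, ih, pow_succ']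
  rw [← h3, h2]
  simp [wMat]

theorem refMat_isometry {i : ℕ} (hi : i < D.rank) :
    (refMat D i)ᵀ * ((corMat D)ᵀ * corMat D) * refMat D i = (corMat D)ᵀ * corMat D := by
  have e : corMat D * refMat D i = (corMat D).submatrix (sP hC ⟨i, hi⟩) id := by
    ext r j
    rw [refMat, Matrix.mul_sub, Matrix.mul_one, Matrix.mul_vecMulVec, Matrix.sub_apply,
      Matrix.submatrix_apply, id, Matrix.vecMulVec_apply]
    show cor D r j - _ = cor D (D.reflectRoot i r) j
    rw [hC.cor_reflect hi j.2 r.2, Matrix.mulVec, dotProduct,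
      ← Fin.sum_univ_eq_sum_range fun k => cor D r k * D.cartan k (D.simple i)]
    by_cases h : (j : ℕ) = i
    · rw [if_pos h, if_pos h, mul_one]
      rfl
    · rw [if_neg h, if_neg h, mul_zero, sub_zero]
  calc (refMat D i)ᵀ * ((corMat D)ᵀ * corMat D) * refMat D i
      = (corMat D * refMat D i)ᵀ * (corMat D * refMat D i) := by
        rw [Matrix.transpose_mul]; simp only [Matrix.mul_assoc]
    _ = _ := by
      rw [e, Matrix.transpose_submatrix, Matrix.submatrix_mul_equiv, Matrix.submatrix_id_id]

theorem wMat_isometry {L : List ℕ} (hL : ∀ i ∈ L, i < D.rank) :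
    (wMat D L)ᵀ * ((corMat D)ᵀ * corMat D) * wMat D L = (corMat D)ᵀ * corMat D := by
  induction L with
  | nil => simp [wMat]
  | cons i L ih =>
    rw [wMat_cons, Matrix.transpose_mul,
      show (wMat D L)ᵀ * (refMat D i)ᵀ * ((corMat D)ᵀ * corMat D) * (refMat D i * wMat D L) =
        (wMat D L)ᵀ * ((refMat D i)ᵀ * ((corMat D)ᵀ * corMat D) * refMat D i) * wMat D L by
        simp only [Matrix.mul_assoc],
      refMat_isometry hC (hL i List.mem_cons_self), ih fun j hj => hL j (List.mem_cons_of_mem i hj)]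

theorem additive_dot (z : Fin D.rank → ℤ) : Additive' D (fun s => z ⬝ᵥ lam D s) := by
  intro i hi s hs
  dsimp only
  rw [← refMat_lam hC hi hs, refMat, Matrix.sub_mulVec, Matrix.one_mulVec,
    Matrix.vecMulVec_mulVec, delta_dot hi, dotProduct_sub]
  congr 1
  simp [dotProduct, lam, Finset.mul_sum]
  exact Finset.sum_congr rfl fun k _ => by ring

theorem dot_neg (z : Fin D.rank → ℤ) {s : ℕ} (hs : s < D.nroots) :
    z ⬝ᵥ lam D (D.neg s) = -(z ⬝ᵥ lam D s) := by
  rw [← dotProduct_neg]
  congr 1
  funext i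
  exact hC.cartan_neg hs i.2

/-- A word whose matrix fixes a regular residue of a prime not dividing the Weyl group is trivial. -/
theorem eqv_nil_of_fix (hdet : (cartanMat D).det ≠ 0) {r : ℕ} [Fact r.Prime]
    (hr : ¬ r ∣ Nat.card (WG hC)) {L : List ℕ} (hL : ∀ i ∈ L, i < D.rank) {v : Fin D.rank → ZMod r}
    (hv : v ᵥ* (wMat D L).map Int.cast = v)
    (hreg : ∀ s < D.nroots, v ⬝ᵥ (fun i => (lam D s i : ZMod r)) ≠ 0) :
    ∀ s < D.nroots, wL D L s = s := by
  classical
  obtain ⟨m, hm⟩ : ∃ m, m = Nat.card (WG hC) := ⟨_, rfl⟩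
  obtain ⟨z0, hz0⟩ : ∃ z0 : Fin D.rank → ℤ, z0 = fun i => ((v i).val : ℤ) := ⟨_, rfl⟩
  obtain ⟨z, hz⟩ : ∃ z, z = ∑ k ∈ Finset.range m, z0 ᵥ* wMat D L ^ k := ⟨_, rfl⟩
  have hzM : z ᵥ* wMat D L = z := by
    rw [hz, Matrix.sum_vecMul]
    simp only [Matrix.vecMul_vecMul, ← pow_succ]
    have h1 := Finset.sum_range_succ' (fun k => z0 ᵥ* wMat D L ^ k) m
    rw [Finset.sum_range_succ, pow_zero, hm, wMat_pow_card hC hdet hL, ← hm] at h1
    exact (add_right_cancel h1).symm
  have hzv : ∀ i, (z i : ZMod r) = (m : ZMod r) * v i := by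
    intro i
    rw [hz, Finset.sum_apply, Int.cast_sum]
    have h1 : ∀ k, ((z0 ᵥ* wMat D L ^ k) i : ZMod r) = v i := by
      intro k
      have h2 : ∀ k, v ᵥ* ((wMat D L ^ k).map Int.cast) = v := by
        intro k
        induction k with
        | zero => simp
        | succ k ih =>
          rw [pow_succ, show (wMat D L ^ k * wMat D L).map (Int.cast : ℤ → ZMod r) =
              (wMat D L ^ k).map Int.cast * (wMat D L).map Int.cast from
            map_mul (Int.castRingHom (ZMod r)).mapMatrix _ _, ← Matrix.vecMul_vecMul, ih, hv]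
      conv_rhs => rw [← congrFun (h2 k) i]
      simp [Matrix.vecMul, dotProduct, hz0]
    simp [h1]
  obtain ⟨f, hf⟩ : ∃ f : ℕ → ℤ, f = fun s => z ⬝ᵥ lam D s := ⟨_, rfl⟩
  have hfinv : ∀ s < D.nroots, f (wL D L s) = f s := fun s hs => by
    simp only [hf]
    rw [← wMat_lam hC hL hs, Matrix.dotProduct_mulVec, hzM]
  have hf0 : ∀ s < D.nroots, f s ≠ 0 := by
    intro s hs h0
    refine hreg s hs ?_
    have h1 : ((f s : ℤ) : ZMod r) = (m : ZMod r) * (v ⬝ᵥ fun i => (lam D s i : ZMod r)) := by
      simp [hf, dotProduct, hzv, Finset.mul_sum, mul_assoc]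
    rw [h0, Int.cast_zero, eq_comm, mul_eq_zero] at h1
    exact h1.resolve_left fun h => hr (hm ▸ (ZMod.natCast_eq_zero_iff _ _).1 h)
  have hfneg : ∀ s < D.nroots, f (D.neg s) = -f s := fun s hs => by
    simp only [hf]; exact dot_neg hC z hs
  -- a word carrying the fundamental roots to the half space of `f`
  let good : List ℕ → ℕ := fun M =>
    ((Finset.range D.nroots).filter fun s => 0 < T.phi s ∧ 0 < f (wL D M s)).card
  have step : ∀ k, ∀ M : List ℕ, (∀ i ∈ M, i < D.rank) → D.nroots ≤ good M + k →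
      ∃ M : List ℕ, (∀ i ∈ M, i < D.rank) ∧ ∀ i < D.rank, 0 < f (wL D M (D.simple i)) := by
    intro k
    induction k with
    | zero =>
      intro M hM hk
      refine ⟨M, hM, fun i hi => ?_⟩
      have hall : (Finset.range D.nroots).filter (fun s => 0 < T.phi s ∧ 0 < f (wL D M s)) =
          Finset.range D.nroots :=
        Finset.eq_of_subset_of_card_le (Finset.filter_subset _ _)
          (by rw [Finset.card_range]; exact hk)
      exact ((Finset.filter_eq_self.1 hall) _ (Finset.mem_range.2 (hC.simple_lt hi))).2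
    | succ k ih =>
      intro M hM hk
      by_cases hdone : ∀ i < D.rank, 0 < f (wL D M (D.simple i))
      · exact ⟨M, hM, hdone⟩
      simp only [not_forall] at hdone
      obtain ⟨i, hi, hi'⟩ := hdone
      have hMi : ∀ a ∈ M ++ [i], a < D.rank := fun a ha => by
        rcases List.mem_append.1 ha with h | h
        exacts [hM a h, (List.mem_singleton.1 h) ▸ hi]
      have hsi := hC.simple_lt hi
      have hneg : f (wL D M (D.simple i)) < 0 := by
        have := hf0 _ (wL_lt hC hM hsi); omega
      refine ih _ hMi ?_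
      have hins : ((Finset.range D.nroots).filter fun s => 0 < T.phi s ∧ 0 < f (wL D M s)).image
          (D.reflectRoot i) ∪ {D.simple i} ⊆
          (Finset.range D.nroots).filter fun s => 0 < T.phi s ∧ 0 < f (wL D (M ++ [i]) s) := by
        intro s hs
        simp only [Finset.mem_union, Finset.mem_image, Finset.mem_singleton, Finset.mem_filter,
          Finset.mem_range] at hs ⊢
        rw [wL_append, show wL D [i] s = D.reflectRoot i s from rfl]
        rcases hs with ⟨u, ⟨hu, hup, huf⟩, rfl⟩ | rfl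
        · have hne : u ≠ D.simple i := fun e => by subst e; omega
          rw [hC.reflect_reflect hi hu]
          exact ⟨hC.reflect_lt hi hu, hC.reflect_pos hi hu hne hup, huf⟩
        · rw [hC.reflect_simple hi, wL_neg hC hM hsi, hfneg _ (wL_lt hC hM hsi)]
          exact ⟨hsi, hC.phi_simple hi, by omega⟩
      have hcard := Finset.card_le_card hins
      rw [Finset.card_union_of_disjoint, Finset.card_image_of_injOn, Finset.card_singleton] at hcard
      · show D.nroots ≤ good (M ++ [i]) + k
        simp only [good] at hk ⊢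
        omega
      · intro a ha b hb h
        simp only [Finset.coe_filter, Finset.mem_range, Set.mem_ofPred_eq] at ha hb
        rw [← hC.reflect_reflect hi ha.1, h, hC.reflect_reflect hi hb.1]
      · simp only [Finset.disjoint_singleton_right, Finset.mem_image, Finset.mem_filter,
          Finset.mem_range, not_exists, not_and]
        rintro u ⟨hu, hup, -⟩ he
        have h1 := hC.reflect_reflect hi hu
        rw [he, hC.reflect_simple hi] at h1
        rw [← h1, hC.phi_neg hsi] at hup
        have := hC.phi_simple hi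
        omega
  obtain ⟨M, hM, hMpos⟩ := step D.nroots [] (by simp) (by omega)
  have hposf : ∀ s < D.nroots, 0 < T.phi s → 0 < f (wL D M s) := by
    refine sign_of_simple hC (f := fun s => f (wL D M s)) ?_ hMpos
    clear hMpos
    suffices key : ∀ N : List ℕ, (∀ i ∈ N, i < D.rank) → ∀ g, Additive' D g →
        Additive' D (fun s => g (wL D N s)) from key M hM f (hf ▸ additive_dot hC z)
    intro N
    induction N with
    | nil => exact fun _ g hg => hg
    | cons i N ihN =>
      intro hN g hg
      exact ihN (fun j hj => hN j (List.mem_cons_of_mem i hj)) _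
        (additive_comp hC hg (hN i List.mem_cons_self))
  have hMr : ∀ i ∈ M.reverse, i < D.rank := fun i hi => hM i (List.mem_reverse.1 hi)
  have hN : ∀ i ∈ M.reverse ++ (L ++ M), i < D.rank := fun i hi => by
    simp only [List.mem_append] at hi
    rcases hi with h | h | h
    exacts [hMr i h, hL i h, hM i h]
  have hNpos : ∀ i < D.rank, 0 < T.phi (wL D (M.reverse ++ (L ++ M)) (D.simple i)) := by
    intro i hi
    have hlt := wL_lt hC hN (hC.simple_lt hi)
    by_contra hcon
    have hneg : 0 < T.phi (D.neg (wL D (M.reverse ++ (L ++ M)) (D.simple i))) := by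
      rw [hC.phi_neg hlt]
      have := hC.phi_ne_zero hlt
      omega
    have h1 := hposf _ (hC.neg_lt hlt) hneg
    rw [wL_neg hC hM hlt, hfneg _ (wL_lt hC hM hlt), wL_append,
      show ∀ x, x < D.nroots → wL D M (wL D M.reverse x) = x from fun x hx => by
        simpa using wL_reverse hC hMr hx] at h1
    · rw [wL_append, hfinv _ (wL_lt hC hM (hC.simple_lt hi))] at h1
      have := hposf _ (hC.simple_lt hi) (hC.phi_simple hi)
      omega
    · exact wL_lt hC (fun a ha => (List.mem_append.1 ha).elim (hL a) (hM a)) (hC.simple_lt hi)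
  intro s hs
  have h1 := wL_eq_self_of_pos hC hN hNpos (wL_lt hC hMr hs)
  have hinv : ∀ x, x < D.nroots → wL D M (wL D M.reverse x) = x := fun x hx => by
    simpa using wL_reverse hC hMr hx
  rw [wL_append, wL_append, hinv s hs] at h1
  have h2 := congrArg (wL D M) h1
  rwa [hinv _ (wL_lt hC hL hs), hinv s hs] at h2

end Cfsg.Agent.Chevalley.Singer
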