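import Cfsg.Agent.Lib.Chevalley.NormalForm
import Cfsg.Agent.Lib.Chevalley.Singer.Weights
import Cfsg.Agent.Lib.Chevalley.Singer.Lattice
import Mathlib.GroupTheory.FiniteAbelian.Duality
import Mathlib.GroupTheory.Sylow
import Mathlib.FieldTheory.Finite.Basic

/-!
Centralisers of regular elements of the torus, fusion in the torus, and the twisted tori as dual
groups of quotients of the weight lattice.
-/

set_option autoImplicit false

open scoped Matrix

namespace Cfsg.Agent.Chevalley.Singer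

open Cfsg.Lie Cfsg.Agent.Chevalley.Table Cfsg.Agent.Chevalley.Check Cfsg.Agent.Chevalley.Cert
  Cfsg.Agent.Chevalley.Group Cfsg.Agent.Chevalley.Unip Cfsg.Agent.Chevalley.Borel
  Cfsg.Agent.Chevalley.Weyl Cfsg.Agent.Chevalley.NormalForm Cfsg.Agent.Chevalley.TorusCard

variable {D : ChevalleyDatum} {F : Type*} [Field F] {T : Tab}

/-- Evaluation of a tuple of units at a weight. -/
def evW (c : Fin D.rank → Fˣ) (x : Fin D.rank → ℤ) : Fˣ := ∏ i, c i ^ x i

theorem evW_add (c : Fin D.rank → Fˣ) (x y : Fin D.rank → ℤ) :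
    evW c (x + y) = evW c x * evW c y := by
  simp [evW, zpow_add, Finset.prod_mul_distrib]

theorem evW_smul (c : Fin D.rank → Fˣ) (k : ℤ) (x : Fin D.rank → ℤ) :
    evW c (k • x) = evW c x ^ k := by
  simp [evW, ← Finset.prod_zpow, ← zpow_mul, mul_comm k]

theorem evW_mul (c c' : Fin D.rank → Fˣ) (x : Fin D.rank → ℤ) :
    evW (c * c') x = evW c x * evW c' x := by
  simp [evW, mul_zpow, Finset.prod_mul_distrib]

theorem evW_one (x : Fin D.rank → ℤ) : evW (F := F) (1 : Fin D.rank → Fˣ) x = 1 := by simp [evW]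

theorem evW_pow (c : Fin D.rank → Fˣ) (n : ℕ) (x : Fin D.rank → ℤ) :
    evW (c ^ n) x = evW c x ^ n := by
  induction n with
  | zero => simp [evW_one]
  | succ n ih => rw [pow_succ, evW_mul, ih, pow_succ]

theorem evW_single (c : Fin D.rank → Fˣ) (j : Fin D.rank) : evW c (Pi.single j 1) = c j := by
  rw [evW, Finset.prod_eq_single j]
  · simp
  · intro i _ h; simp [h]
  · simp

theorem evW_lam (c : Fin D.rank → Fˣ) (s : ℕ) :
    evW c (lam D s) = torChar D (TorusCard.ext c) s := (torChar_ext c s).symm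

theorem evW_sum {κ : Type*} (s : Finset κ) (c : Fin D.rank → Fˣ) (x : κ → Fin D.rank → ℤ) :
    evW c (∑ k ∈ s, x k) = ∏ k ∈ s, evW c (x k) := by
  induction s using Finset.cons_induction with
  | empty => simp [evW]
  | cons k s hk ih => rw [Finset.sum_cons, Finset.prod_cons, evW_add, ih]

/-- The twisted torus of a matrix, as tuples of units. -/
def gam (M : Matrix (Fin D.rank) (Fin D.rank) ℤ) (F : Type*) [Field F] (q : ℕ) :
    Subgroup (Fin D.rank → Fˣ) where
  carrier := {c | ∀ x, evW c (M *ᵥ x) = evW c x ^ q}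
  one_mem' := fun x => by simp [evW_one]
  mul_mem' := fun {a b} ha hb x => by rw [evW_mul, evW_mul, ha x, hb x, mul_pow]
  inv_mem' := fun {a} ha x => by
    have e : ∀ y, evW a⁻¹ y = (evW a y)⁻¹ := fun y =>
      eq_inv_of_mul_eq_one_left (by rw [← evW_mul, inv_mul_cancel, evW_one])
    rw [e, e, ha x, inv_pow]

/-- The twisted torus is dual to the quotient of the lattice. -/
theorem gam_equiv (M : Matrix (Fin D.rank) (Fin D.rank) ℤ) (F : Type*) [Field F] (q : ℕ) :
    Nonempty (gam M F q ≃*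
      (Multiplicative ((Fin D.rank → ℤ) ⧸ coker M (q : ℤ)) →* Fˣ)) := by
  have hlift : ∀ c : gam M F q, ∃ φ : Multiplicative ((Fin D.rank → ℤ) ⧸ coker M (q : ℤ)) →* Fˣ,
      ∀ x, φ (Multiplicative.ofAdd (Submodule.Quotient.mk x)) = evW (c : Fin D.rank → Fˣ) x := by
    intro c
    let a : (Fin D.rank → ℤ) →+ Additive Fˣ :=
      { toFun := fun x => Additive.ofMul (evW (c : Fin D.rank → Fˣ) x)
        map_zero' := by simp [evW]
        map_add' := fun x y => congrArg Additive.ofMul (evW_add _ x y) }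
    have hker : coker M (q : ℤ) ≤ LinearMap.ker a.toIntLinearMap := by
      rintro _ ⟨x, rfl⟩
      rw [LinearMap.mem_ker]
      show Additive.ofMul (evW (c : Fin D.rank → Fˣ)
        (Matrix.toLin' (Matrix.scalar (Fin D.rank) (q : ℤ) - M) x)) = Additive.ofMul 1
      rw [Matrix.toLin'_apply, Matrix.sub_mulVec,
        show Matrix.scalar (Fin D.rank) (q : ℤ) *ᵥ x = (q : ℤ) • x from funext fun i => by
          simp [Matrix.scalar_apply, Matrix.mulVec_diagonal],
        sub_eq_add_neg, evW_add, evW_smul, zpow_natCast, ← neg_one_smul ℤ (M *ᵥ x), evW_smul,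
        zpow_neg_one, c.2 x, mul_inv_cancel]
    exact ⟨((coker M (q : ℤ)).liftQ a.toIntLinearMap hker).toAddMonoidHom.toMultiplicativeLeft,
      fun x => rfl⟩
  choose φ hφ using hlift
  have key : ∀ (ψ : Multiplicative ((Fin D.rank → ℤ) ⧸ coker M (q : ℤ)) →* Fˣ) (x : Fin D.rank → ℤ),
      evW (fun i => ψ (Multiplicative.ofAdd (Submodule.Quotient.mk (Pi.single i 1)))) x =
        ψ (Multiplicative.ofAdd (Submodule.Quotient.mk x)) := by
    intro ψ x
    conv_rhs => rw [show x = ∑ i, x i • Pi.single i (1 : ℤ) from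
      funext fun j => by simp [Finset.sum_apply, Pi.single_apply]]
    rw [← Submodule.mkQ_apply, map_sum, ofAdd_sum, map_prod, evW]
    refine Finset.prod_congr rfl fun i _ => ?_
    rw [map_zsmul, ofAdd_zsmul, map_zpow, Submodule.mkQ_apply]
  refine ⟨MulEquiv.mk
    ⟨φ, fun ψ => ⟨fun i => ψ (Multiplicative.ofAdd (Submodule.Quotient.mk (Pi.single i 1))),
      fun x => ?_⟩, fun c => ?_, fun ψ => ?_⟩ fun a b => ?_⟩
  · rw [key, key, ← map_pow, ← ofAdd_nsmul, mk_mulVec, natCast_zsmul]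
  · refine Subtype.ext (funext fun i => ?_)
    show φ c (Multiplicative.ofAdd (Submodule.Quotient.mk (Pi.single i 1))) = _
    rw [hφ, evW_single]
  · refine MonoidHom.ext fun y => ?_
    obtain ⟨x, hx⟩ := Submodule.Quotient.mk_surjective (coker M (q : ℤ)) y.toAdd
    rw [show y = Multiplicative.ofAdd (Submodule.Quotient.mk x) by rw [hx]; rfl, hφ]
    exact key ψ x
  · refine MonoidHom.ext fun y => ?_
    obtain ⟨x, hx⟩ := Submodule.Quotient.mk_surjective (coker M (q : ℤ)) y.toAdd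
    show φ (a * b) y = φ a y * φ b y
    rw [show y = Multiplicative.ofAdd (Submodule.Quotient.mk x) by rw [hx]; rfl, hφ, hφ, hφ]
    exact evW_mul _ _ x

variable (hC : Certified D T)
include hC

/-- Two torus elements conjugate by a monomial element have characters related by its word. -/
theorem char_of_conj {d c₁ c₂ : ℕ → Fˣ} {L : List ℕ} (hL : ∀ i ∈ L, i < D.rank)
    (h : tor D d * nL hC F L * tor D c₁ * (tor D d * nL hC F L)⁻¹ = tor D c₂) {s : ℕ}
    (hs : s < D.nroots) : torChar D c₂ (wL D L s) = torChar D c₁ s := by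
  obtain ⟨η, hη, e⟩ := conj_xg (F := F) hC hL d hs
  obtain ⟨n, hn⟩ : ∃ n, n = tor D d * nL hC F L := ⟨_, rfl⟩
  rw [← hn] at h e
  have hws := wL_lt hC hL hs
  have h1 : tor D c₂ * xg hC (wL D L s) (η * 1) * (tor D c₂)⁻¹ =
      xg hC (wL D L s) (η * ((torChar D c₁ s : F) * 1)) := by
    rw [← h, ← e, ← e, ← tor_conj_x hC c₁ s 1 hs]
    group
  rw [tor_conj_x hC _ _ _ hws, mul_left_comm η] at h1
  exact Units.ext (mul_right_cancel₀ (mul_ne_zero hη one_ne_zero) (xg_injective hC hws h1))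

/-- A monomial element carries a torus element to a torus element. -/
theorem exists_conj_tor {L : List ℕ} (hL : ∀ i ∈ L, i < D.rank) (d c : ℕ → Fˣ) :
    ∃ c' : ℕ → Fˣ, tor D d * nL hC F L * tor D c * (tor D d * nL hC F L)⁻¹ = tor D c' := by
  obtain ⟨c', hc'⟩ := nL_conj_tor (F := F) hC hL c
  refine ⟨c', ?_⟩
  rw [show tor D d * nL hC F L * tor D c * (tor D d * nL hC F L)⁻¹ =
    tor D d * (nL hC F L * tor D c) * (nL hC F L)⁻¹ * (tor D d)⁻¹ by group, hc',
    show tor D d * (tor D c' * nL hC F L) * (nL hC F L)⁻¹ * (tor D d)⁻¹ =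
      tor D d * tor D c' * (tor D d)⁻¹ by group,
    H_comm hC (tor_mem_H hC d) (tor_mem_H hC c'), mul_inv_cancel_right]

/-- The centraliser of a regular element of the torus with trivial stabiliser is the torus. -/
theorem mem_H_of_commute {c : ℕ → Fˣ} (hreg : ∀ s < D.nroots, torChar D c s ≠ 1)
    (hstab : ∀ L : List ℕ, (∀ i ∈ L, i < D.rank) →
      (∀ s < D.nroots, torChar D c (wL D L s) = torChar D c s) → ∀ s < D.nroots, wL D L s = s)
    {g : GL D.Idx F} (hg : g ∈ D.group F) (hcomm : tor D c * g * (tor D c)⁻¹ = g) :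
    g ∈ D.diagonalSubgroup F := by
  obtain ⟨b, hb, n, hn, u, hu, rfl⟩ := exists_form hC hg
  obtain ⟨d, L, hL, rfl⟩ := (mem_N_iff hC).1 hn
  obtain ⟨m, hm⟩ : ∃ m, m = tor D d * nL hC F L := ⟨_, rfl⟩
  rw [← hm] at hn hu hcomm ⊢
  obtain ⟨t, ht⟩ : ∃ t, t = tor D c := ⟨_, rfl⟩
  rw [← ht] at hcomm
  have htH : t ∈ D.diagonalSubgroup F := ht ▸ tor_mem_H hC c
  obtain ⟨c', hc'⟩ := exists_conj_tor (F := F) hC hL d c
  rw [← hm, ← ht] at hc'
  have hk : t * (tor D c')⁻¹ ∈ D.diagonalSubgroup F :=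
    mul_mem htH (inv_mem (tor_mem_H hC c'))
  have hu' : t * u * t⁻¹ ∈ Uminus D F m := by
    rw [hm, Uminus_eq hC hL d] at hu ⊢
    clear hcomm hg
    induction hu using Subgroup.closure_induction with
    | mem x hx =>
      obtain ⟨r, a, hr, rfl⟩ := hx
      rw [ht, tor_conj_x hC _ _ _ ((mem_invList hC).1 hr).1]
      exact Subgroup.subset_closure ⟨r, _, hr, rfl⟩
    | one => simp
    | mul x y _ _ ihx ihy =>
      rw [show t * (x * y) * t⁻¹ = t * x * t⁻¹ * (t * y * t⁻¹) by group]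
      exact mul_mem ihx ihy
    | inv x _ ih => rw [show t * x⁻¹ * t⁻¹ = (t * x * t⁻¹)⁻¹ by group]; exact inv_mem ih
  have hb' : t * b * t⁻¹ * (t * (tor D c')⁻¹) ∈ D.borelSubgroup F := by
    have htB : t ∈ D.borelSubgroup F := Subgroup.mem_sup_right htH
    exact mul_mem (mul_mem (mul_mem htB hb) (inv_mem htB)) (Subgroup.mem_sup_right hk)
  have he : t * b * t⁻¹ * (t * (tor D c')⁻¹) * m * (t * u * t⁻¹) = b * m * u :=
    calc _ = t * (b * m * u) * t⁻¹ := by rw [← hc']; group
      _ = _ := hcomm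
  obtain ⟨-, huniq⟩ := unique_form hC hb' hb hn hn hu' hu he
  obtain ⟨hbe, hue⟩ := huniq rfl
  have hfix : ∀ {v : GL D.Idx F}, v ∈ D.posUnipotent F → t * v * t⁻¹ = v → v = 1 := by
    intro v hv e
    obtain ⟨f, rfl⟩ := exists_prodX hC hv
    have e2 : ∀ Ls : List ℕ, (∀ r ∈ Ls, r < D.nroots) →
        t * prodX hC Ls f * t⁻¹ = prodX hC Ls fun r => (torChar D c r : F) * f r := by
      intro Ls
      induction Ls with
      | nil => intro _; simp [prodX]
      | cons r Ls ih =>
        intro h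
        simp only [prodX, List.map_cons, List.prod_cons] at ih ⊢
        rw [show t * (xg hC r (f r) * (Ls.map fun r => xg hC r (f r)).prod) * t⁻¹ =
          t * xg hC r (f r) * t⁻¹ * (t * (Ls.map fun r => xg hC r (f r)).prod * t⁻¹) by group,
          ih fun a ha => h a (List.mem_cons_of_mem r ha)]
        congr 1
        rw [ht]; exact tor_conj_x hC c r (f r) (h r List.mem_cons_self)
    have hpos : ∀ r ∈ D.posRoots, r < D.nroots ∧ 0 < T.phi r := fun _ hr => (mem_posRoots hC).1 hr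
    rw [e2 _ fun r hr => (hpos r hr).1] at e
    have h0 := prodX_inj hC posRoots_sorted hpos e
    refine List.prod_eq_one fun x hx => ?_
    obtain ⟨r, hr, rfl⟩ := List.mem_map.1 hx
    have h1 : f r = 0 := by
      have h2 := h0 r hr
      have h3 : ((torChar D c r : F) - 1) * f r = 0 := by rw [sub_mul, h2, one_mul, sub_self]
      exact (mul_eq_zero.1 h3).resolve_left fun h4 => hreg r (hpos r hr).1
        (Units.ext (sub_eq_zero.1 h4))
    rw [h1, xg_zero hC]
  have hu1 : u = 1 := hfix (Uminus_le_U hC m hu) hue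
  obtain ⟨v, hv, k, hk', rfl⟩ := (mem_B_iff hC).1 hb
  have htk : t * k * t⁻¹ = k := by
    rw [H_comm hC htH hk', mul_inv_cancel_right]
  have hvk : t * v * t⁻¹ * (t * (tor D c')⁻¹) = v := by
    refine mul_right_cancel (b := k) ?_
    calc t * v * t⁻¹ * (t * (tor D c')⁻¹) * k
        = t * v * t⁻¹ * (t * (tor D c')⁻¹ * k) := by rw [mul_assoc]
      _ = t * v * t⁻¹ * (t * k * t⁻¹ * (t * (tor D c')⁻¹)) := by rw [htk, H_comm hC hk hk']
      _ = t * (v * k) * t⁻¹ * (t * (tor D c')⁻¹) := by group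
      _ = v * k := hbe
  have hUt : (t * v * t⁻¹)⁻¹ * v ∈ D.posUnipotent F :=
    mul_mem (inv_mem ((Subgroup.mem_normalizer_iff.1 (H_normalizes_U hC htH) v).1 hv)) hv
  have hone : t * (tor D c')⁻¹ = 1 := by
    have h1 : t * (tor D c')⁻¹ ∈ (⊥ : Subgroup (GL D.Idx F)) := by
      rw [← U_inf_H hC, Subgroup.mem_inf]
      refine ⟨?_, hk⟩
      rw [show t * (tor D c')⁻¹ = (t * v * t⁻¹)⁻¹ * v from eq_inv_mul_of_mul_eq hvk]
      exact hUt
    exact Subgroup.mem_bot.1 h1
  rw [hone, mul_one] at hvk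
  have hv1 := hfix hv hvk
  rw [mul_inv_eq_one] at hone
  have hw : ∀ s < D.nroots, wL D L s = s := by
    refine hstab L hL fun s hs => char_of_conj hC hL (d := d) ?_ hs
    rw [← hm, ← ht, hc', ← hone]
  obtain ⟨e, he'⟩ := exists_tor_of_pos (F := F) hC hL fun i hi => by
    rw [hw _ (hC.simple_lt hi)]
    exact hC.phi_simple hi
  rw [hv1, hu1, one_mul, mul_one, hm, he', tor_mul]
  exact mul_mem hk' (tor_mem_H hC _)

omit hC in
/-- A subgroup of index prime to `r` contains a conjugate of every `r`-subgroup. -/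
theorem exists_conj_mem {G : Type*} [Group G] [Finite G] (H : Subgroup G) {r : ℕ} [Fact r.Prime]
    (hi : ¬ r ∣ H.index) {y : G} (hy : orderOf y = r) : ∃ g : G, g⁻¹ * y * g ∈ H := by
  let P0 : Sylow r H := default
  have hP : IsPGroup r ↥((P0 : Subgroup H).map H.subtype) := P0.2.map _
  have hidx : ¬ r ∣ ((P0 : Subgroup H).map H.subtype).index := by
    rw [Subgroup.index_map_subtype]
    exact Nat.Prime.not_dvd_mul Fact.out P0.not_dvd_index hi
  obtain ⟨Q, hQ⟩ := IsPGroup.exists_le_sylow (IsPGroup.of_card (n := 1)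
    (by rw [Nat.card_zpowers, hy, pow_one]) : IsPGroup r ↥(Subgroup.zpowers y))
  obtain ⟨g, hg⟩ := MulAction.exists_smul_eq G (hP.toSylow hidx) Q
  refine ⟨g, ?_⟩
  have hm := hQ (Subgroup.mem_zpowers y)
  rw [← hg, Sylow.smul_def, Sylow.pointwise_smul_def] at hm
  have h1 := Subgroup.mem_pointwise_smul_iff_inv_smul_mem.1 hm
  obtain ⟨z, hz, e⟩ := h1
  rw [show g⁻¹ * y * g = (MulAut.conj g)⁻¹ • y by
    simp [MulAut.smul_def, mul_assoc], ← e]
  exact z.2

end Cfsg.Agent.Chevalley.Singer
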