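import Cfsg.Agent.Lib.Chevalley.FieldFix
import Cfsg.Agent.Lib.Chevalley.Singer.Torus
import Mathlib.FieldTheory.Finite.Extension
import Mathlib.FieldTheory.Perfect
import Mathlib.Algebra.Ring.GeomSum

/-!
A self-centralising cyclic subgroup of order `Φ_d(q)` in a Chevalley group of rank `φ(d)` with
trivial centre of the simply connected group: an element whose order is a primitive prime divisor is
regular in a torus over the extension of degree `d`, and the centraliser is the twisted torus.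
-/

set_option autoImplicit false

open scoped Matrix

namespace Cfsg.Agent.Chevalley.Singer

open Cfsg.Lie Cfsg.Agent.Chevalley.Table Cfsg.Agent.Chevalley.Check Cfsg.Agent.Chevalley.Cert
  Cfsg.Agent.Chevalley.Group Cfsg.Agent.Chevalley.Borel Cfsg.Agent.Chevalley.Weyl
  Cfsg.Agent.Chevalley.NormalForm Cfsg.Agent.Chevalley.TorusCard Cfsg.Agent.Chevalley.WeylGroup
  Cfsg.Agent.Chevalley.WeylEnum Cfsg.Agent.Chevalley.FieldAut Cfsg.Agent.Chevalley.FieldFix

variable {D : ChevalleyDatum} {T : Tab}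

section Torus

variable (hC : Certified D T) {K : Type*} [Field K]
include hC

theorem tor_eq_torHom (c : ℕ → Kˣ) : torHom D K (fun i => c i) = tor D c :=
  dg_congr fun s _ => Finset.prod_congr rfl fun i hi => by
    rw [TorusCard.ext, dif_pos (Finset.mem_range.1 hi)]

theorem span_simple (hdet : IsUnit (cartanMat D).det) (x : Fin D.rank → ℤ) :
    x = ∑ j : Fin D.rank, ((((cartanMat D)ᵀ)⁻¹) *ᵥ x) j • lam D (D.simple j) := by
  conv_lhs => rw [← Matrix.one_mulVec x, ← Matrix.mul_nonsing_inv (cartanMat D)ᵀ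
    (by rwa [Matrix.det_transpose]), ← Matrix.mulVec_mulVec]
  funext i
  simp [Matrix.mulVec, dotProduct, Finset.sum_apply, cartanMat, lam, mul_comm]

theorem torHom_inj (hdet : IsUnit (cartanMat D).det) : Function.Injective (torHom D K) := by
  rw [← MonoidHom.ker_eq_bot_iff, ker_torHom hC, eq_bot_iff]
  intro c hc
  rw [MonoidHom.mem_ker] at hc
  rw [Subgroup.mem_bot]
  have h := congrArg (matHom (G := Kˣ) ((cartanMat D)⁻¹)) hc
  rwa [← matHom_mul, Matrix.nonsing_inv_mul _ hdet, matHom_one, map_one] at h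

theorem lam_ne_zero {s : ℕ} (hs : s < D.nroots) : lam D s ≠ 0 := by
  refine Root.simple_induction hC (P := fun s => lam D s ≠ 0) (fun i hi h => ?_)
    (fun r hr i hi ih h => ?_) s hs
  · have h1 := congrFun h ⟨i, hi⟩
    simp [lam, hC.cartan_simple hi] at h1
  · have h2 := refMat_lam hC hi (hC.reflect_lt hi hr)
    rw [h, Matrix.mulVec_zero, hC.reflect_reflect hi hr] at h2
    exact ih h2.symm

end Torus

/-- The existence theorem. -/
theorem exists_cyclic (hC : Certified D T) {Ls : List Lev} (hLs : chainLevChk T Ls = true)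
    (htop : topChk T Ls = true) (hdet : IsUnit (cartanMat D).det)
    {degs : List ℕ} (hlen : degs.length = D.rank)
    (hW : (Ls.map fun L => L.reps.length).prod = degs.prod)
    (hH : ∀ (K : Type) [Field K] [Fintype K],
      Nat.card (D.diagonalSubgroup K) = (Fintype.card K - 1) ^ D.rank)
    {e : ℕ} (hG : ∀ (K : Type) [Field K] [Fintype K], Nat.card (D.group K) =
      Fintype.card K ^ e * (degs.map fun k => Fintype.card K ^ k - 1).prod)
    {F : Type*} [Field F] [Fintype F] {q : ℕ} (hq : Fintype.card F = q)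
    (hGF : Nat.card (D.group F) = q ^ e * (degs.map fun k => q ^ k - 1).prod)
    {d : ℕ} (hd : d.totient = D.rank) (hl : 0 < D.rank)
    {k : ℕ} (hk : k ∈ degs) (hdk : d ∣ k)
    {N : ℕ} (hN : (Polynomial.cyclotomic d ℤ).eval (q : ℤ) = (N : ℤ))
    {b : ℕ} (hS : 0 < ((corMat D)ᵀ * corMat D).det)
    (hbound : ∀ s < D.nroots, (lam D s ⬝ᵥ ((corMat D)ᵀ * corMat D) *ᵥ lam D s) ^ D.rank <
      (b : ℤ) ^ 2 * ((corMat D)ᵀ * corMat D).det)
    (hsmall : ∀ p : ℕ, p.Prime → p < b → ¬ p ^ 2 ∣ N)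
    {r : ℕ} [Fact r.Prime] (hrb : b ≤ r) (hrN : r ∣ N) (hrd : ¬ r ∣ d) (hrW : ¬ r ∣ degs.prod) :
    ∃ H : Subgroup ↥(D.group F), IsCyclic ↥H ∧ Nat.card ↥H = N ∧
      Subgroup.centralizer (H : Set ↥(D.group F)) = H := by
  classical
  obtain ⟨p, hchar⟩ := CharP.exists F
  obtain ⟨n, hp, hqp⟩ := FiniteField.card F p
  haveI : Fact p.Prime := ⟨hp⟩
  have hq1 : 1 ≤ q := hq ▸ Fintype.card_pos
  have hd0 : 0 < d := Nat.pos_of_ne_zero fun h => by subst h; simp at hd; omega
  haveI : NeZero d := ⟨hd0.ne'⟩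
  -- the residue of `q` has order `d`
  haveI : NeZero (d : ZMod r) := ⟨fun h => hrd ((ZMod.natCast_eq_zero_iff _ _).1 h)⟩
  have hord : orderOf (q : ZMod r) = d := by
    have h1 : (Polynomial.cyclotomic d (ZMod r)).IsRoot (q : ZMod r) := by
      rw [Polynomial.IsRoot, ← Polynomial.map_cyclotomic d (Int.castRingHom (ZMod r)),
        show (q : ZMod r) = Int.castRingHom (ZMod r) (q : ℤ) by simp, Polynomial.eval_map_apply,
        hN]
      simpa [ZMod.natCast_eq_zero_iff] using hrN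
    exact (Polynomial.isRoot_cyclotomic_iff.1 h1).eq_orderOf.symm
  -- the extension
  obtain ⟨K, _, _, f, hQ⟩ : ∃ (K : Type) (_ : Field K) (_ : Fintype K) (_ : F →+* K),
      Fintype.card K = q ^ d :=
    ⟨FiniteField.Extension F p d, inferInstance, Fintype.ofFinite _, algebraMap F _, by
      rw [← @Nat.card_eq_fintype_card _ (Fintype.ofFinite _), FiniteField.natCard_extension,
        Nat.card_eq_fintype_card, hq]⟩
  haveI : CharP K p := charP_of_injective_ringHom f.injective p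
  obtain ⟨σ, hσ⟩ : ∃ σ : K →+* K, ∀ x, σ x = x ^ q :=
    ⟨iterateFrobenius K p n, fun x => by rw [iterateFrobenius_def, ← hq, hqp]⟩
  have hσf : ∀ t : F, σ (f t) = f t := fun t => by
    rw [hσ, ← map_pow, ← hq, FiniteField.pow_card]
  have hfix : ∀ t : K, σ t = t → t ∈ Set.range f := by
    intro t ht
    rw [hσ] at ht
    by_contra hne
    have h1 : (insert t ((Finset.univ : Finset F).image f)).card ≤ q := by
      have hq2 : 1 < q := hq ▸ Fintype.one_lt_card
      have hne0 : (Polynomial.X ^ q - Polynomial.X : Polynomial K) ≠ 0 :=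
        FiniteField.X_pow_card_sub_X_ne_zero K hq2
      refine (Polynomial.card_le_degree_of_subset_roots ?_).trans
        (FiniteField.X_pow_card_sub_X_natDegree_eq K hq2).le
      intro x hx
      rw [Finset.mem_val, Finset.mem_insert, Finset.mem_image] at hx
      rw [Polynomial.mem_roots hne0, Polynomial.IsRoot]
      rcases hx with rfl | ⟨a, -, rfl⟩
      · simp [ht]
      · simp [← map_pow, ← hq, FiniteField.pow_card]
    rw [Finset.card_insert_of_notMem, Finset.card_image_of_injective _ f.injective,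
      Finset.card_univ, hq] at h1
    · omega
    · simpa using hne
  -- the element of order `r`
  have hrG : r ∣ Nat.card (D.group F) := by
    rw [hGF]
    refine dvd_mul_of_dvd_right (Dvd.dvd.trans ?_
      (List.dvd_prod (List.mem_map_of_mem hk))) _
    rw [← ZMod.natCast_eq_zero_iff, Nat.cast_sub (Nat.one_le_pow _ _ hq1), Nat.cast_pow,
      orderOf_dvd_iff_pow_eq_one.1 (hord ▸ hdk), Nat.cast_one, sub_self]
  obtain ⟨y, hy⟩ := exists_prime_orderOf_dvd_card' r hrG
  obtain ⟨yK, hyK⟩ : ∃ yK : D.group K, (yK : GL D.Idx K) = mapGL D f y :=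
    ⟨⟨_, map_mem_group f y.2⟩, rfl⟩
  have hyr : orderOf yK = r := by
    rw [← Subgroup.orderOf_coe, hyK, orderOf_injective (mapGL D f) (mapGL_injective f),
      Subgroup.orderOf_coe, hy]
  -- it is conjugate into the torus
  have hQr : ((q ^ d : ℕ) : ZMod r) = 1 := by rw [Nat.cast_pow, ← hord, pow_orderOf_eq_one]
  have hidx : ¬ r ∣ ((D.diagonalSubgroup K).subgroupOf (D.group K)).index := by
    have hmul := Subgroup.card_mul_index ((D.diagonalSubgroup K).subgroupOf (D.group K))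
    rw [Nat.card_congr (Subgroup.subgroupOfEquivOfLe (H_le_group hC)).toEquiv, hH K, hG K] at hmul
    have hgeom : ∀ L : List ℕ, (L.map fun j => Fintype.card K ^ j - 1).prod =
        (Fintype.card K - 1) ^ L.length *
          (L.map fun j => ∑ i ∈ Finset.range j, Fintype.card K ^ i).prod := by
      intro L
      induction L with
      | nil => simp
      | cons j L ih =>
        have hj : Fintype.card K ^ j - 1 =
            (∑ i ∈ Finset.range j, Fintype.card K ^ i) * (Fintype.card K - 1) := by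
          have h1 : 1 ≤ Fintype.card K := Fintype.card_pos
          zify [Nat.one_le_pow j _ Fintype.card_pos, h1]
          exact (geom_sum_mul _ _).symm
        rw [List.map_cons, List.prod_cons, ih, hj, List.map_cons, List.prod_cons, List.length_cons,
          pow_succ]
        ring
    rw [hgeom, hlen, mul_left_comm] at hmul
    have hidx' := Nat.eq_of_mul_eq_mul_left
      (Nat.pow_pos (Nat.sub_pos_of_lt (Fintype.one_lt_card (α := K)))) hmul
    rw [hidx', ← ZMod.natCast_eq_zero_iff, Nat.cast_mul, Nat.cast_pow, hQ, hQr, one_pow, one_mul,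
      Nat.cast_list_prod, List.map_map]
    rw [show degs.map (Nat.cast ∘ fun j => ∑ i ∈ Finset.range j, (q ^ d) ^ i) =
        degs.map (fun j : ℕ => (j : ZMod r)) by
          refine List.map_congr_left fun j _ => ?_
          rw [Function.comp_apply, Nat.cast_sum]
          simp only [Nat.cast_pow] at hQr ⊢
          simp [hQr],
      ← Nat.cast_list_prod, ZMod.natCast_eq_zero_iff]
    exact hrW
  obtain ⟨g, hg⟩ := exists_conj_mem _ hidx hyr
  rw [Subgroup.mem_subgroupOf] at hg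
  obtain ⟨c, hc⟩ := (mem_H_iff hC).1 hg
  obtain ⟨gv, hgv⟩ : ∃ gv : GL D.Idx K, gv = g := ⟨_, rfl⟩
  have hgG : gv ∈ D.group K := hgv ▸ g.2
  have hconj : gv⁻¹ * mapGL D f y * gv = tor D c := by
    rw [← hc, hgv, ← hyK, Subgroup.coe_mul, Subgroup.coe_mul, Subgroup.coe_inv]
  obtain ⟨cF, hcF⟩ : ∃ cF : Fin D.rank → Kˣ, cF = fun i : Fin D.rank => c i := ⟨_, rfl⟩
  have hev : ∀ (c : ℕ → Kˣ) (s : ℕ), evW (fun i : Fin D.rank => c i) (lam D s) = torChar D c s := by
    intro c s
    rw [evW_lam, torChar, torChar]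
    exact Finset.prod_congr rfl fun i hi => by rw [TorusCard.ext, dif_pos (Finset.mem_range.1 hi)]
  have hTi := torHom_inj (K := K) hC hdet
  have hcr : cF ^ r = 1 := by
    apply hTi
    rw [map_pow, map_one, hcF, tor_eq_torHom hC, ← hconj]
    have h1 : (mapGL D f (y : GL D.Idx F)) ^ r = 1 := by
      rw [← map_pow, ← SubgroupClass.coe_pow, ← hy, pow_orderOf_eq_one]; simp
    rw [show gv⁻¹ * mapGL D f y * gv = gv⁻¹ * mapGL D f y * gv⁻¹⁻¹ by rw [inv_inv], conj_pow, h1]
    group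
  obtain ⟨ζ, hζ⟩ : ∃ ζ : Kˣ, orderOf ζ = r := exists_prime_orderOf_dvd_card' r (by
    rw [Nat.card_units, Nat.card_eq_fintype_card, hQ, ← ZMod.natCast_eq_zero_iff,
      Nat.cast_sub (Nat.one_le_pow _ _ hq1), hQr, Nat.cast_one, sub_self])
  have hvex : ∀ i : Fin D.rank, ∃ a : ℤ, cF i = ζ ^ a := fun i => by
    have hp' : IsPrimitiveRoot (ζ : K) r := by
      rw [← hζ, ← orderOf_units]; exact IsPrimitiveRoot.orderOf _
    obtain ⟨a, -, ha⟩ := hp'.eq_pow_of_pow_eq_one (ξ := (cF i : K))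
      (by rw [← Units.val_pow_eq_pow_val, ← Pi.pow_apply, hcr]; simp)
    exact ⟨a, Units.ext (by rw [zpow_natCast, Units.val_pow_eq_pow_val, ha])⟩
  choose va hva using hvex
  obtain ⟨v, hv⟩ : ∃ v : Fin D.rank → ZMod r, v = fun i => (va i : ZMod r) := ⟨_, rfl⟩
  have hzp : ∀ a a' : ℤ, ζ ^ a = ζ ^ a' ↔ (a : ZMod r) = (a' : ZMod r) := fun a a' => by
    rw [zpow_eq_zpow_iff_modEq, hζ, ZMod.intCast_eq_intCast_iff]
  have hevv : ∀ x, evW cF x = ζ ^ (∑ i, va i * x i) := fun x => by
    rw [evW, ← prod_zpow_sum]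
    exact Finset.prod_congr rfl fun i _ => by rw [hva, zpow_mul]
  have hdotv : ∀ x : Fin D.rank → ℤ,
      ((∑ i, va i * x i : ℤ) : ZMod r) = v ⬝ᵥ fun i => (x i : ZMod r) := fun x => by
    simp [hv, dotProduct]
  have hv0 : v ≠ 0 := fun h => by
    have h1 : cF = 1 := funext fun i => by
      rw [hva, Pi.one_apply, ← zpow_zero ζ, hzp, Int.cast_zero]
      exact (congrFun hv i).symm.trans (congrFun h i)
    have h2 : mapGL D f (y : GL D.Idx F) = 1 := by
      have h3 : tor D c = 1 := by rw [← tor_eq_torHom hC, ← hcF, h1, map_one]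
      rw [h3] at hconj
      rw [show mapGL D f (y : GL D.Idx F) = gv * (gv⁻¹ * mapGL D f y * gv) * gv⁻¹ by group, hconj]
      group
    rw [← map_one (mapGL D f)] at h2
    have h3 : orderOf y = 1 := orderOf_eq_one_iff.2 (Subtype.ext (mapGL_injective f h2))
    rw [hy] at h3
    exact (Fact.out : r.Prime).one_lt.ne' h3
  -- the Frobenius twists `c` by an element of the Weyl group
  obtain ⟨cq, hcq⟩ : ∃ cq : ℕ → Kˣ, cq = fun i => c i ^ q := ⟨_, rfl⟩
  have hσtor : ∀ c : ℕ → Kˣ, mapGL D σ (tor D c) = tor D (fun i => c i ^ q) := fun c => by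
    rw [mapGL_tor]
    congr 1
    funext i
    exact Units.ext (by simp [hσ])
  have hσgG : mapGL D σ gv ∈ D.group K := map_mem_group σ hgG
  obtain ⟨n0, hn0⟩ : ∃ n0, n0 = gv⁻¹ * mapGL D σ gv := ⟨_, rfl⟩
  have hn0G : n0 ∈ D.group K := hn0 ▸ mul_mem (inv_mem hgG) hσgG
  have hn0c : n0 * tor D cq * n0⁻¹ = tor D c := by
    have h1 := congrArg (mapGL D σ) hconj
    rw [hσtor, ← hcq, map_mul, map_mul, map_inv] at h1
    rw [← h1, hn0, ← hconj]
    have h2 : mapGL D σ (mapGL D f (y : GL D.Idx F)) = mapGL D f y :=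
      Units.ext (Matrix.ext fun a b => hσf _)
    rw [h2]
    group
  obtain ⟨nn, hnn, hnc⟩ := conj_in_N hC (tor_mem_H hC cq) (tor_mem_H hC c) hn0G hn0c
  obtain ⟨dd, L, hL, rfl⟩ := (mem_N_iff hC).1 hnn
  have hchar : ∀ s < D.nroots, torChar D c (wL D L s) = torChar D c s ^ q := fun s hs => by
    rw [char_of_conj hC hL hnc hs, hcq]
    simp only [torChar, ← Finset.prod_pow]
    refine Finset.prod_congr rfl fun i _ => ?_
    rw [← zpow_natCast (c i ^ D.cartan i s), ← zpow_natCast (c i), ← zpow_mul, ← zpow_mul, mul_comm]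
  obtain ⟨M, hM⟩ : ∃ M, M = wMat D L := ⟨_, rfl⟩
  -- the residue is an eigenvector
  have hCinj : ∀ a a' : Fin D.rank → ZMod r, (∀ j : Fin D.rank,
      (a ⬝ᵥ fun i => (lam D (D.simple j) i : ZMod r)) = a' ⬝ᵥ fun i => (lam D (D.simple j) i : ZMod r)) →
      a = a' := by
    intro a a' h
    have hu : IsUnit ((cartanMat D)ᵀ.map (Int.cast : ℤ → ZMod r)).det := by
      have h1 := hdet.map (Int.castRingHom (ZMod r))
      rw [← Matrix.det_transpose] at h1
      rwa [RingHom.map_det] at h1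
    have h1 : a ᵥ* (cartanMat D)ᵀ.map Int.cast = a' ᵥ* (cartanMat D)ᵀ.map Int.cast :=
      funext fun j => h j
    have h2 := congrArg (· ᵥ* ((cartanMat D)ᵀ.map (Int.cast : ℤ → ZMod r))⁻¹) h1
    simpa [Matrix.vecMul_vecMul, Matrix.mul_nonsing_inv _ hu] using h2
  have hdot_mul : ∀ {A : Matrix (Fin D.rank) (Fin D.rank) ℤ} (x : Fin D.rank → ℤ),
      ((v ᵥ* A.map Int.cast) ⬝ᵥ fun i => (x i : ZMod r)) = v ⬝ᵥ fun i => ((A *ᵥ x) i : ZMod r) := by
    intro A x
    rw [← Matrix.dotProduct_mulVec]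
    congr 1
    funext i
    simp [Matrix.mulVec, dotProduct]
  have hvM : v ᵥ* M.map Int.cast = (q : ZMod r) • v := by
    refine hCinj _ _ fun j => ?_
    have hs := hC.simple_lt j.2
    rw [hdot_mul, hM, wMat_lam hC hL hs, smul_dotProduct, smul_eq_mul]
    have h1 := hchar _ hs
    rw [← hev, ← hev, ← hcF, hevv, hevv, ← zpow_natCast, ← zpow_mul, hzp, Int.cast_mul, hdotv,
      hdotv, Int.cast_natCast, mul_comm] at h1
    exact h1
  -- the characteristic polynomial
  have hdet0 : (cartanMat D).det ≠ 0 := hdet.ne_zero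
  have hrWG : ¬ r ∣ Nat.card (WG hC) := by rwa [card_WG hC hLs htop, hW]
  have hMm : M ^ Nat.card (WG hC) = 1 := hM ▸ wMat_pow_card hC hdet0 hL
  have hcp := charpoly_eq hMm hrWG hord hd hv0 hvM
  have hkry : ∀ s < D.nroots, (krylov M (lam D s)).det ≠ 0 ∧
      (krylov M (lam D s)).det.natAbs < b := by
    intro s hs
    refine ⟨det_krylov_ne hd0 hcp (lam_ne_zero hC hs), ?_⟩
    have h1 := det_krylov_sq_le (corMat D) (hM ▸ wMat_isometry hC hL) (lam D s)
    have h2 := lt_of_le_of_lt h1 (hbound s hs)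
    have h3 := lt_of_mul_lt_mul_right h2 hS.le
    have h4 : (((krylov M (lam D s)).det.natAbs : ℕ) : ℤ) ^ 2 < (b : ℤ) ^ 2 := by
      rwa [Int.natAbs_sq]
    exact_mod_cast lt_of_pow_lt_pow_left₀ 2 (Nat.cast_nonneg b) h4
  have hreg : ∀ s < D.nroots, (v ⬝ᵥ fun i => (lam D s i : ZMod r)) ≠ 0 := by
    intro s hs h0
    let u : (Fin D.rank → ℤ) →+ ZMod r :=
      { toFun := fun x => v ⬝ᵥ fun i => (x i : ZMod r)
        map_zero' := by simp [dotProduct]
        map_add' := fun x x' => by simp [dotProduct, mul_add, Finset.sum_add_distrib] }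
    have hu : ∀ x, u (M *ᵥ x) = (q : ℤ) • u x := fun x => by
      show (v ⬝ᵥ fun i => ((M *ᵥ x) i : ZMod r)) = _
      rw [← hdot_mul, hvM, smul_dotProduct]
      simp [u]
    refine hv0 (funext fun i => ?_)
    have h1 := det_smul_eq_zero u (q : ℤ) hu (a := lam D s) h0 (Pi.single i 1)
    have h2 : u (Pi.single i 1) = v i := by
      show (v ⬝ᵥ fun j => ((Pi.single i (1 : ℤ) : Fin D.rank → ℤ) j : ZMod r)) = v i
      rw [dotProduct, Finset.sum_eq_single i]
      · simp
      · intro j _ hj; simp [hj]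
      · simp
    rw [h2, zsmul_eq_mul, mul_eq_zero] at h1
    refine h1.resolve_left fun h => ?_
    rw [ZMod.intCast_zmod_eq_zero_iff_dvd, ← Int.dvd_natAbs, Int.natCast_dvd_natCast] at h
    have h3 := Nat.le_of_dvd (Int.natAbs_pos.2 (hkry s hs).1) h
    have := (hkry s hs).2
    omega
  have hregc : ∀ s < D.nroots, torChar D c s ≠ 1 := fun s hs h => by
    rw [← hev, ← hcF, hevv, ← zpow_zero ζ, hzp, hdotv, Int.cast_zero] at h
    exact hreg s hs h
  have hstab : ∀ L' : List ℕ, (∀ i ∈ L', i < D.rank) →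
      (∀ s < D.nroots, torChar D c (wL D L' s) = torChar D c s) →
        ∀ s < D.nroots, wL D L' s = s := by
    intro L' hL' h
    refine eqv_nil_of_fix hC hdet0 hrWG hL' (v := v) (hCinj _ _ fun j => ?_) hreg
    have hs := hC.simple_lt j.2
    have h1 := h _ hs
    rw [← hev, ← hev, ← hcF, hevv, hevv, hzp, hdotv, hdotv] at h1
    rw [hdot_mul, wMat_lam hC hL' hs]
    exact h1
  have hcent : ∀ {x : GL D.Idx K}, x ∈ D.group K → tor D c * x * (tor D c)⁻¹ = x →
      x ∈ D.diagonalSubgroup K := fun hx => mem_H_of_commute hC hregc hstab hx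
  -- the conjugation by `n0` on the torus
  obtain ⟨h0, hh0, hn0e⟩ : ∃ h0 ∈ D.diagonalSubgroup K,
      n0 = h0 * (tor D dd * nL hC K L) := by
    refine ⟨n0 * (tor D dd * nL hC K L)⁻¹, hcent (mul_mem hn0G (inv_mem (N_le_group hC hnn))) ?_,
      by group⟩
    obtain ⟨m, hm⟩ : ∃ m, m = tor D dd * nL hC K L := ⟨_, rfl⟩
    rw [← hm] at hnc ⊢
    have h2 : m⁻¹ * (tor D c)⁻¹ = (tor D cq)⁻¹ * m⁻¹ := by rw [← hnc]; group
    calc tor D c * (n0 * m⁻¹) * (tor D c)⁻¹ = tor D c * n0 * (m⁻¹ * (tor D c)⁻¹) := by group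
      _ = tor D c * n0 * ((tor D cq)⁻¹ * m⁻¹) := by rw [h2]
      _ = n0 * tor D cq * n0⁻¹ * n0 * ((tor D cq)⁻¹ * m⁻¹) := by rw [hn0c]
      _ = _ := by group
  -- the centraliser
  let H : Subgroup (D.group F) :=
    ((D.diagonalSubgroup K).map (MulAut.conj gv).toMonoidHom).comap
      ((mapGL D f).comp (D.group F).subtype)
  have hHmem : ∀ x : D.group F, x ∈ H ↔ gv⁻¹ * mapGL D f x * gv ∈ D.diagonalSubgroup K := fun x => by
    constructor
    · rintro ⟨h, hh, e⟩
      have e' : gv * h * gv⁻¹ = mapGL D f x := e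
      rw [← e', show gv⁻¹ * (gv * h * gv⁻¹) * gv = h by group]
      exact hh
    · intro h
      exact ⟨_, h, show gv * (gv⁻¹ * mapGL D f x * gv) * gv⁻¹ = mapGL D f x by group⟩
  have hyH : y ∈ H := (hHmem y).2 (hconj ▸ tor_mem_H hC c)
  have hself : Subgroup.centralizer (H : Set ↥(D.group F)) = H := by
    refine le_antisymm (fun x hx => (hHmem x).2 (hcent ?_ ?_)) fun x hx => ?_
    · exact mul_mem (mul_mem (inv_mem hgG) (map_mem_group f x.2)) hgG
    · have h1 : mapGL D f (y : GL D.Idx F) * mapGL D f x = mapGL D f x * mapGL D f y := by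
        rw [← map_mul, ← map_mul]
        exact congrArg (fun z : D.group F => mapGL D f z) (Subgroup.mem_centralizer_iff.1 hx y hyH)
      rw [← hconj]
      calc _ = gv⁻¹ * (mapGL D f y * mapGL D f x) * (mapGL D f (y : GL D.Idx F))⁻¹ * gv := by group
        _ = _ := by rw [h1]; group
    · rw [Subgroup.mem_centralizer_iff]
      intro z hz
      have h1 := H_comm hC ((hHmem z).1 hz) ((hHmem x).1 hx)
      refine Subtype.ext (mapGL_injective f ?_)
      rw [Subgroup.coe_mul, Subgroup.coe_mul, map_mul, map_mul]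
      calc _ = gv * ((gv⁻¹ * mapGL D f z * gv) * (gv⁻¹ * mapGL D f x * gv)) * gv⁻¹ := by group
        _ = _ := by rw [h1]; group
  -- its image is the twisted torus
  have himg : H.map ((mapGL D f).comp (D.group F).subtype) =
      (gam M K q).map ((MulAut.conj gv).toMonoidHom.comp (torHom D K)) := by
    have hsig : ∀ c1 : ℕ → Kˣ, mapGL D σ (gv * tor D c1 * gv⁻¹) =
        gv * (n0 * tor D (fun i => c1 i ^ q) * n0⁻¹) * gv⁻¹ := fun c1 => by
      rw [map_mul, map_mul, map_inv, hσtor, hn0]; group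
    have hn0m : ∀ c1 : ℕ → Kˣ, ∃ c2 : ℕ → Kˣ,
        n0 * tor D (fun i => c1 i ^ q) * n0⁻¹ = tor D c2 ∧
          ∀ s < D.nroots, torChar D c2 (wL D L s) = torChar D c1 s ^ q := by
      intro c1
      obtain ⟨c2, hc2⟩ := exists_conj_tor (F := K) hC hL dd (fun i => c1 i ^ q)
      refine ⟨c2, ?_, fun s hs => ?_⟩
      · rw [hn0e, show h0 * (tor D dd * nL hC K L) * tor D (fun i => c1 i ^ q) *
          (h0 * (tor D dd * nL hC K L))⁻¹ = h0 * ((tor D dd * nL hC K L) * tor D (fun i => c1 i ^ q) *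
            (tor D dd * nL hC K L)⁻¹) * h0⁻¹ by group, hc2, H_comm hC hh0 (tor_mem_H hC c2),
          mul_inv_cancel_right]
      · rw [char_of_conj hC hL hc2 hs]
        simp only [torChar, ← Finset.prod_pow]
        refine Finset.prod_congr rfl fun i _ => ?_
        rw [← zpow_natCast (c1 i ^ D.cartan i s), ← zpow_natCast (c1 i), ← zpow_mul, ← zpow_mul,
          mul_comm]
    refine le_antisymm ?_ ?_
    · rintro _ ⟨x, hx, rfl⟩
      obtain ⟨c1, hc1⟩ := (mem_H_iff hC).1 ((hHmem x).1 hx)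
      have hx' : mapGL D f (x : GL D.Idx F) = gv * tor D c1 * gv⁻¹ := by rw [← hc1]; group
      refine ⟨fun i : Fin D.rank => c1 i, fun z => ?_, ?_⟩
      · obtain ⟨c2, hc2, hc2'⟩ := hn0m c1
        have h1 : mapGL D σ (mapGL D f (x : GL D.Idx F)) = mapGL D f x :=
          Units.ext (Matrix.ext fun a b => hσf _)
        rw [hx', hsig, hc2] at h1
        have h2 : tor D c2 = tor D c1 := mul_left_cancel (mul_right_cancel h1)
        have h3 : ∀ i : Fin D.rank, c2 i = c1 i := congrFun (hTi (by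
          rw [tor_eq_torHom hC, tor_eq_torHom hC, h2]))
        rw [span_simple hC hdet z, Matrix.mulVec_sum, evW_sum, evW_sum, ← Finset.prod_pow]
        refine Finset.prod_congr rfl fun j _ => ?_
        rw [Matrix.mulVec_smul, evW_smul, evW_smul, hM, wMat_lam hC hL (hC.simple_lt j.2), hev, hev,
          show torChar D c1 (wL D L (D.simple j)) = torChar D c2 (wL D L (D.simple j)) from
            Finset.prod_congr rfl fun i hi => by rw [← h3 ⟨i, Finset.mem_range.1 hi⟩],
          hc2' _ (hC.simple_lt j.2), ← zpow_natCast, ← zpow_natCast, ← zpow_mul, ← zpow_mul,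
          mul_comm]
      · show gv * torHom D K (fun i : Fin D.rank => c1 i) * gv⁻¹ = mapGL D f x
        rw [tor_eq_torHom hC, hx']
    · rintro _ ⟨c1, hc1, rfl⟩
      obtain ⟨cN, hcN⟩ : ∃ cN, cN = TorusCard.ext c1 := ⟨_, rfl⟩
      have htor : torHom D K c1 = tor D cN := by rw [hcN]; rfl
      show gv * torHom D K c1 * gv⁻¹ ∈ _
      rw [htor]
      obtain ⟨c2, hc2, hc2'⟩ := hn0m cN
      have h4 : tor D c2 = tor D cN := by
        refine dg_congr fun s hs => ?_
        have hLr : ∀ i ∈ L.reverse, i < D.rank := fun i hi => hL i (List.mem_reverse.1 hi)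
        have hs' := wL_lt hC hLr hs
        have e : wL D L (wL D L.reverse s) = s := by simpa using wL_reverse hC hLr hs
        conv_lhs => rw [← e]
        rw [hc2' _ hs', hcN, ← evW_lam, ← evW_lam, ← hc1, hM, wMat_lam hC hL hs', e]
      have hfixed : mapGL D σ (gv * tor D cN * gv⁻¹) = gv * tor D cN * gv⁻¹ := by
        rw [hsig, hc2, h4]
      have hmemG : gv * tor D cN * gv⁻¹ ∈ D.group K :=
        mul_mem (mul_mem hgG (H_le_group hC (tor_mem_H hC cN))) (inv_mem hgG)
      obtain ⟨x, hx, hxe⟩ := group_fixed hC f σ hfix hTi hmemG hfixed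
      refine ⟨⟨x, hx⟩, (hHmem _).2 ?_, hxe⟩
      show gv⁻¹ * mapGL D f x * gv ∈ _
      rw [hxe, show gv⁻¹ * (gv * tor D cN * gv⁻¹) * gv = tor D cN by group]
      exact tor_mem_H hC cN
  have e1 : ↥H ≃* ↥(gam M K q) :=
    ((H.equivMapOfInjective ((mapGL D f).comp (D.group F).subtype)
      ((mapGL_injective f).comp Subtype.val_injective)).trans (MulEquiv.subgroupCongr himg)).trans
      ((gam M K q).equivMapOfInjective _ ((MulAut.conj gv).injective.comp hTi)).symm
  obtain ⟨e2⟩ := gam_equiv (D := D) M K q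
  have hq2 : 1 < q := hq ▸ Fintype.one_lt_card
  have hN0 : 0 < N := Nat.pos_of_ne_zero fun h => by
    rcases Nat.eq_or_lt_of_le (hd0 : 1 ≤ d) with h7 | h7
    · rw [← h7, Polynomial.cyclotomic_one] at hN
      simp [h] at hN
      omega
    · have h8 := Polynomial.cyclotomic_pos' (n := d) (R := ℤ) (x := (q : ℤ)) (by exact_mod_cast hq2)
      rw [hN, h] at h8
      exact absurd h8 (by simp)
  have hevalne : (Polynomial.cyclotomic d ℤ).eval (q : ℤ) ≠ 0 := by
    rw [hN]; exact_mod_cast hN0.ne'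
  have hcardX : Nat.card (Multiplicative ((Fin D.rank → ℤ) ⧸ coker M (q : ℤ))) = N := by
    rw [Nat.card_congr Multiplicative.toAdd, card_coker hcp hevalne, hN, Int.natAbs_natCast]
  haveI : Finite (Multiplicative ((Fin D.rank → ℤ) ⧸ coker M (q : ℤ))) :=
    Nat.finite_of_card_ne_zero (by omega)
  have hcyc : IsCyclic (Multiplicative ((Fin D.rank → ℤ) ⧸ coker M (q : ℤ))) := by
    refine coker_cyclic hcp hevalne (lam D (D.simple 0)) fun p hp hpd => ?_
    rw [hN, Int.natAbs_natCast]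
    refine hsmall p hp (lt_of_le_of_lt ?_ (hkry _ (hC.simple_lt hl)).2)
    exact Nat.le_of_dvd (Int.natAbs_pos.2 (hkry _ (hC.simple_lt hl)).1) (Int.natCast_dvd.1 hpd)
  have hNQ : N ∣ Nat.card Kˣ := by
    rw [Nat.card_units, Nat.card_eq_fintype_card, hQ]
    have h1 : Polynomial.cyclotomic d ℤ ∣ Polynomial.X ^ d - 1 :=
      Polynomial.cyclotomic.dvd_X_pow_sub_one d ℤ
    have h2 := Polynomial.eval_dvd (x := (q : ℤ)) h1
    rw [hN, Polynomial.eval_sub, Polynomial.eval_pow, Polynomial.eval_X, Polynomial.eval_one,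
      show ((q : ℤ) ^ d - 1) = ((q ^ d - 1 : ℕ) : ℤ) by
        rw [Nat.cast_sub (Nat.one_le_pow _ _ hq1)]; push_cast; ring, Int.natCast_dvd_natCast] at h2
    exact h2
  haveI : NeZero N := ⟨hN0.ne'⟩
  haveI : HasEnoughRootsOfUnity K (Nat.card (Multiplicative ((Fin D.rank → ℤ) ⧸ coker M (q : ℤ)))) := by
    rw [hcardX]
    obtain ⟨w, hw⟩ := IsCyclic.exists_ofOrder_eq_natCard (α := Kˣ)
    obtain ⟨j, hj⟩ := hNQ
    have hprim : IsPrimitiveRoot (w : K) (Nat.card Kˣ) := by
      rw [← hw, ← orderOf_units]; exact IsPrimitiveRoot.orderOf _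
    exact ⟨⟨_, hprim.pow Nat.card_pos (hj.trans (mul_comm N j))⟩, inferInstance⟩
  letI : CommGroup (Multiplicative ((Fin D.rank → ℤ) ⧸ coker M (q : ℤ))) := inferInstance
  obtain ⟨e3⟩ := IsCyclic.monoidHom_equiv_self
    (Multiplicative ((Fin D.rank → ℤ) ⧸ coker M (q : ℤ))) K
  have e := (e1.trans e2).trans e3
  exact ⟨H, isCyclic_of_surjective e.symm.toMonoidHom e.symm.surjective,
    (Nat.card_congr e.toEquiv).trans hcardX, hself⟩

end Cfsg.Agent.Chevalley.Singer
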