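import Cfsg.Agent.Lib.Chevalley.Singer.Main
import Mathlib.RingTheory.Polynomial.Cyclotomic.Expand

/-!
Small facts for applying the existence theorem to single types.
-/

set_option autoImplicit false

open scoped Matrix
open Polynomial

namespace Cfsg.Agent.Chevalley.Singer

/-- The determinant of a matrix with a triangular factorisation. -/
theorem det_eq_of_triangular {l : ℕ} {S L U : Matrix (Fin l) (Fin l) ℤ} {v : ℤ} (h : L * S = U)
    (hL : ∀ i j : Fin l, i < j → L i j = 0) (hU : ∀ i j : Fin l, j < i → U i j = 0)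
    (hv : (∏ i, U i i) = (∏ i, L i i) * v) (hne : ∏ i, L i i ≠ 0) : S.det = v := by
  have h1 := congrArg Matrix.det h
  rw [Matrix.det_mul, Matrix.det_of_lowerTriangular L hL,
    Matrix.det_of_upperTriangular (M := U) fun i j hij => hU i j hij, hv] at h1
  exact mul_left_cancel₀ hne h1

/-- A triangular factorisation, as a computation. -/
def triOk {l : ℕ} (S L U : Matrix (Fin l) (Fin l) ℤ) (v : ℤ) : Bool :=
  decide (L * S = U) && ((List.finRange l).all fun i => (List.finRange l).all fun j =>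
    (decide (i < j → (L i j : ℤ) = 0)) && (decide (j < i → (U i j : ℤ) = 0))) &&
    decide ((∏ i, U i i) = (∏ i, L i i) * v) && decide (∏ i, L i i ≠ 0)

theorem det_of_triOk {l : ℕ} {S L U : Matrix (Fin l) (Fin l) ℤ} {v : ℤ}
    (h : triOk S L U v = true) : S.det = v := by
  simp only [triOk, Bool.and_eq_true, List.all_eq_true, List.mem_finRange, true_implies,
    decide_eq_true_eq, forall_const] at h
  obtain ⟨⟨⟨h1, h23⟩, h4⟩, h5⟩ := h
  exact det_eq_of_triangular h1 (fun i j => (h23 i j).1) (fun i j => (h23 i j).2) h4 h5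

/-- Equality of integer matrices, as a computation. -/
def eqB {a b : ℕ} (A B : Matrix (Fin a) (Fin b) ℤ) : Bool := decide (A = B)

theorem of_eqB {a b : ℕ} {A B : Matrix (Fin a) (Fin b) ℤ} (h : eqB A B = true) : A = B :=
  of_decide_eq_true h

/-- The determinant of the Cartan matrix is a unit. -/
theorem isUnit_det_of_diag {l : ℕ} {P C Q : Matrix (Fin l) (Fin l) ℤ}
    (h : P * C * Q = 1) : IsUnit C.det := by
  have h1 := congrArg Matrix.det h
  rw [Matrix.det_mul, Matrix.det_mul, Matrix.det_one, mul_comm P.det, mul_assoc] at h1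
  exact IsUnit.of_mul_eq_one _ h1

theorem not_dvd_of_big {r b n k : ℕ} (hr : r.Prime) (hrb : b ≤ r) (hb : 0 < b)
    (h : n ∣ (b - 1).factorial ^ k) : ¬ r ∣ n := fun hd => by
  have := hr.dvd_factorial.1 (hr.dvd_of_dvd_pow (hd.trans h))
  omega

theorem zmod_not_dvd {p N : ℕ} (h : (N : ZMod p) ≠ 0) : ¬ p ∣ N := fun hd =>
  h ((ZMod.natCast_eq_zero_iff _ _).2 hd)

/-- A prime divisor outside a set of primes of which only one can divide, at most once. -/
theorem exists_big {N b p0 : ℕ} (hp0 : p0.Prime) (hN : p0 < N)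
    (hsq : ¬ p0 ^ 2 ∣ N) (hsmall : ∀ p : ℕ, p.Prime → p < b → p ≠ p0 → ¬ p ∣ N) :
    ∃ r : ℕ, r.Prime ∧ b ≤ r ∧ r ∣ N := by
  by_contra hcon
  simp only [not_exists, not_and] at hcon
  have huniq : ∀ {d : ℕ}, d.Prime → d ∣ N → d = p0 := fun {d} hd hdN => by
    by_contra hne
    exact hsmall d hd (lt_of_not_ge fun h => hcon d hd h hdN) hne hdN
  have h := Nat.eq_prime_pow_of_unique_prime_dvd (by omega) huniq
  generalize N.primeFactorsList.length = k at h
  rcases k with _ | _ | k
  · have := hp0.pos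
    simp at h; omega
  · simp at h; omega
  · exact hsq (h ▸ pow_dvd_pow p0 (by omega))

theorem eval_cyclotomic_two (x : ℤ) : (cyclotomic 2 ℤ).eval x = x + 1 := by
  simp [cyclotomic_two]

theorem eval_cyclotomic_three (x : ℤ) : (cyclotomic 3 ℤ).eval x = x ^ 2 + x + 1 := by
  have : Fact (Nat.Prime 3) := ⟨Nat.prime_three⟩
  rw [cyclotomic_prime, eval_finset_sum, Finset.sum_range_succ, Finset.sum_range_succ,
    Finset.sum_range_one]
  simp; ring

theorem eval_cyclotomic_six (x : ℤ) : (cyclotomic 6 ℤ).eval x * (x + 1) = x ^ 3 + 1 := by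
  have h := congrArg (eval x) (cyclotomic_expand_eq_cyclotomic_mul (p := 3) (n := 2)
    Nat.prime_three (by norm_num) ℤ)
  rw [expand_eval, eval_mul, eval_cyclotomic_two, eval_cyclotomic_two] at h
  exact h.symm

theorem eval_cyclotomic_eight (x : ℤ) : (cyclotomic 8 ℤ).eval x = x ^ 4 + 1 := by
  have : Fact (Nat.Prime 2) := ⟨Nat.prime_two⟩
  rw [show (8 : ℕ) = 2 ^ (2 + 1) from rfl, cyclotomic_prime_pow_eq_geom_sum Nat.prime_two,
    eval_finset_sum, Finset.sum_range_succ, Finset.sum_range_one]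
  simp; ring

theorem eval_cyclotomic_thirty (x : ℤ) (hx : 1 < x) :
    (cyclotomic 30 ℤ).eval x = x ^ 8 + x ^ 7 - x ^ 5 - x ^ 4 - x ^ 3 + x + 1 := by
  have h := congrArg (eval x) (cyclotomic_expand_eq_cyclotomic_mul (p := 5) (n := 6)
    (by norm_num) (by norm_num) ℤ)
  rw [expand_eval, eval_mul, show 6 * 5 = 30 from rfl] at h
  have h6 := eval_cyclotomic_six x
  have h65 := eval_cyclotomic_six (x ^ 5)
  generalize (cyclotomic 30 ℤ).eval x = a at h ⊢
  generalize (cyclotomic 6 ℤ).eval x = b at h h6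
  generalize (cyclotomic 6 ℤ).eval (x ^ 5) = c at h h65
  subst h
  have hx0 : 0 < x := by omega
  have hne : (x ^ 3 + 1) * (x ^ 5 + 1) ≠ 0 := by positivity
  refine mul_left_cancel₀ hne ?_
  linear_combination (x + 1) * h65 - a * (x ^ 5 + 1) * h6

end Cfsg.Agent.Chevalley.Singer
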